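import Mathlib

/-!
Coefficient ideals of ideals in algebras which are projective as modules, and descent of ideals.
-/

set_option autoImplicit false

universe u

open TensorProduct

namespace Groth.Agent.WeilClosedLib

variable {R A : Type u} [CommRing R] [CommRing A] [Algebra R A]

variable (R) in
/-- The smallest ideal of `R` whose extension to `A` contains `J`, for `A` projective over `R`. -/
def coeff (J : Ideal A) : Ideal R := ⨆ φ : A →ₗ[R] R, Ideal.span (φ '' (J : Set A))

theorem apply_mem_coeff (J : Ideal A) (φ : A →ₗ[R] R) {a : A} (ha : a ∈ J) : φ a ∈ coeff R J :=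
  Ideal.mem_iSup_of_mem φ (Ideal.subset_span ⟨a, ha, rfl⟩)

/-- A dual family: coordinates and vectors. -/
theorem exists_dual [Module.Projective R A] : ∃ (s : A →ₗ[R] A →₀ R),
    ∀ a, ((s a).sum fun i r => r • i) = a := by
  obtain ⟨s, hs⟩ := Module.Projective.out (R := R) (P := A)
  exact ⟨s, fun a => by simpa [Finsupp.linearCombination_apply] using hs a⟩

theorem le_map_coeff [Module.Projective R A] (J : Ideal A) : J ≤ (coeff R J).map (algebraMap R A) := by
  obtain ⟨s, hs⟩ := exists_dual (R := R) (A := A)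
  intro a ha
  rw [← hs a, Finsupp.sum]
  refine Ideal.sum_mem _ fun i _ => ?_
  rw [Algebra.smul_def]
  exact Ideal.mul_mem_right _ _ (Ideal.mem_map_of_mem _ (apply_mem_coeff J ((Finsupp.lapply i).comp s) ha))

theorem coeff_le_iff [Module.Projective R A] (J : Ideal A) (I : Ideal R) :
    coeff R J ≤ I ↔ J ≤ I.map (algebraMap R A) := by
  refine ⟨fun h => (le_map_coeff J).trans (Ideal.map_mono h), fun h => iSup_le fun φ => Ideal.span_le.2 ?_⟩
  rintro _ ⟨a, ha, rfl⟩
  have hsmul : a ∈ I • (⊤ : Submodule R A) := by rw [Ideal.smul_top_eq_map]; exact h ha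
  have := Submodule.mem_map_of_mem (f := φ) hsmul
  rw [Submodule.map_smul''] at this
  exact (Submodule.smul_le.2 fun r hr n _ => Ideal.mul_mem_right _ _ hr) this

theorem coeff_fg [Module.Projective R A] (J : Ideal A) (hJ : J.FG) : (coeff R J).FG := by
  classical
  obtain ⟨t, rfl⟩ := hJ
  obtain ⟨s, hs⟩ := exists_dual (R := R) (A := A)
  let T : Finset R := t.biUnion fun a => (s a).support.image (s a)
  refine ⟨T, le_antisymm (Ideal.span_le.2 ?_) ((coeff_le_iff _ _).2 (Ideal.span_le.2 fun a ha => ?_))⟩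
  · intro r hr
    simp only [T, Finset.coe_biUnion, Set.mem_iUnion, Finset.coe_image] at hr
    obtain ⟨a, ha, i, -, rfl⟩ := hr
    exact apply_mem_coeff _ ((Finsupp.lapply i).comp s) (Ideal.subset_span ha)
  · rw [← hs a, Finsupp.sum]
    refine Ideal.sum_mem _ fun i hi => ?_
    rw [Algebra.smul_def]
    refine Ideal.mul_mem_right _ _ (Ideal.mem_map_of_mem _ (Ideal.subset_span ?_))
    simp only [T, Finset.coe_biUnion, Set.mem_iUnion, Finset.coe_image]
    exact ⟨a, ha, i, hi, rfl⟩

/-- An ideal dies in `A ⊗ B` iff its coefficient ideal dies in `B`. -/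
theorem forall_tmul_eq_zero_iff [Module.Projective R A] (J : Ideal A) (B : Type u) [CommRing B] [Algebra R B] :
    (∀ a ∈ J, a ⊗ₜ[R] (1 : B) = 0) ↔ coeff R J ≤ RingHom.ker (algebraMap R B) := by
  constructor
  · intro h
    refine iSup_le fun φ => Ideal.span_le.2 ?_
    rintro _ ⟨a, ha, rfl⟩
    have e := congrArg ((TensorProduct.lid R B).toLinearMap ∘ₗ φ.rTensor B) (h a ha)
    simpa [Algebra.smul_def, RingHom.mem_ker] using e
  · intro h a ha
    obtain ⟨s, hs⟩ := exists_dual (R := R) (A := A)
    rw [← hs a, Finsupp.sum, TensorProduct.sum_tmul]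
    refine Finset.sum_eq_zero fun i _ => ?_
    have h0 : algebraMap R B (s a i) = 0 := h (apply_mem_coeff J ((Finsupp.lapply i).comp s) ha)
    rw [TensorProduct.smul_tmul, Algebra.smul_def, h0, zero_mul, TensorProduct.tmul_zero]

/-- Faithfully flat descent of ideals. -/
theorem map_comap_eq_of_flat {R' : Type u} [CommRing R'] [Algebra R R'] [Module.Flat R R'] (c' : Ideal R')
    (h : c'.map (Algebra.TensorProduct.includeLeft : R' →ₐ[R] R' ⊗[R] R') ≤
      c'.map (Algebra.TensorProduct.includeRight : R' →ₐ[R] R' ⊗[R] R')) :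
    (c'.comap (algebraMap R R')).map (algebraMap R R') = c' := by
  refine le_antisymm Ideal.map_comap_le fun x hx => ?_
  let c : Ideal R := c'.comap (algebraMap R R')
  have hψ : ∀ r ∈ c, (Ideal.Quotient.mkₐ R c').comp (Algebra.ofId R R') r = 0 := fun r hr =>
    Ideal.Quotient.eq_zero_iff_mem.2 hr
  let ψ : (R ⧸ c) →ₐ[R] R' ⧸ c' := Ideal.Quotient.liftₐ c ((Ideal.Quotient.mkₐ R c').comp (Algebra.ofId R R')) hψ
  have hψi : Function.Injective ψ := by
    rw [injective_iff_map_eq_zero]
    intro r hr
    obtain ⟨r, rfl⟩ := Ideal.Quotient.mk_surjective r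
    exact Ideal.Quotient.eq_zero_iff_mem.2
      (show r ∈ c from Ideal.mem_comap.2 (Ideal.Quotient.eq_zero_iff_mem.1 hr))
  have hinj : Function.Injective (ψ.toLinearMap.lTensor R') :=
    Module.Flat.lTensor_preserves_injective_linearMap _ hψi
  have hzero : x ⊗ₜ[R] (1 : R ⧸ c) = 0 := by
    refine hinj ?_
    rw [map_zero, LinearMap.lTensor_tmul, AlgHom.toLinearMap_apply, map_one]
    have hmem := h (Ideal.mem_map_of_mem _ hx)
    have hker : c'.map (Algebra.TensorProduct.includeRight : R' →ₐ[R] R' ⊗[R] R') ≤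
        RingHom.ker (Algebra.TensorProduct.map (AlgHom.id R R') (Ideal.Quotient.mkₐ R c')) := by
      rw [Ideal.map_le_iff_le_comap]
      intro y hy
      simp [Ideal.Quotient.eq_zero_iff_mem.2 hy]
    simpa using hker hmem
  refine Ideal.Quotient.eq_zero_iff_mem.1 ((Algebra.TensorProduct.quotIdealMapEquivTensorQuot (A := R) R' c).injective ?_)
  rw [map_zero]
  exact hzero

/-- Finite generation of ideals descends along faithfully flat extensions. -/
theorem fg_of_fg_map {R' : Type u} [CommRing R'] [Algebra R R'] [Module.FaithfullyFlat R R'] (C : Ideal R)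
    (h : (C.map (algebraMap R R')).FG) : C.FG := by
  classical
  obtain ⟨T', hT'sub, hT'⟩ := (Submodule.fg_span_iff_fg_span_finset_subset _).1 h
  obtain ⟨T'', hT''sub, rfl⟩ := Finset.subset_set_image_iff.1 hT'sub
  have e : (Ideal.span (T'' : Set R)).map (algebraMap R R') = C.map (algebraMap R R') := by
    rw [Ideal.map_span, ← Finset.coe_image]
    exact hT'.symm
  refine ⟨T'', ?_⟩
  rw [← Ideal.comap_map_eq_self_of_faithfullyFlat (B := R') (Ideal.span (T'' : Set R)), e,
    Ideal.comap_map_eq_self_of_faithfullyFlat]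

end Groth.Agent.WeilClosedLib
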