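import Mathlib
import Groth.Agent.FpqcDesc.Basic
import Groth.Agent.WeilClosedLib.Coeff
/-!
The functor of base changes over which a scheme maps into a closed subscheme.
-/

set_option autoImplicit false
set_option backward.isDefEq.respectTransparency false
set_option backward.isDefEq.respectTransparency.types false
set_option linter.style.haveILetI false

universe u

open CategoryTheory CategoryTheory.Limits AlgebraicGeometry TopologicalSpace TensorProduct

noncomputable section

namespace Groth.Agent.WeilClosedLib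

/-- After base change along `g`, the source of `f` maps into `j`. -/
def FactorsOn {S Z Y T : Scheme.{u}} (f : Z ⟶ S) (j : Y ⟶ Z) (g : T ⟶ S) : Prop :=
  ∀ ⦃W : Scheme.{u}⦄ (a : W ⟶ Z) (b : W ⟶ T), a ≫ f = b ≫ g → ∃ l : W ⟶ Y, l ≫ j = a

variable {S Z Y T : Scheme.{u}} {f : Z ⟶ S} {j : Y ⟶ Z}

theorem factorsOn_iff_isIso [Mono j] (g : T ⟶ S) :
    FactorsOn f j g ↔ IsIso (pullback.snd j (pullback.fst f g)) := by
  constructor
  · intro h
    obtain ⟨l, hl⟩ := h (pullback.fst f g) (pullback.snd f g) pullback.condition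
    haveI : IsSplitEpi (pullback.snd j (pullback.fst f g)) :=
      ⟨⟨⟨pullback.lift l (𝟙 _) (by simp [hl]), pullback.lift_snd _ _ _⟩⟩⟩
    exact isIso_of_mono_of_isSplitEpi _
  · intro _ W a b w
    refine ⟨pullback.lift a b w ≫ inv (pullback.snd j (pullback.fst f g)) ≫ pullback.fst j _, ?_⟩
    simp [pullback.condition]

theorem FactorsOn.comp {g : T ⟶ S} (h : FactorsOn f j g) {T' : Scheme.{u}} (k : T' ⟶ T) :
    FactorsOn f j (k ≫ g) := fun _ a b w => h a (b ≫ k) (by simpa using w)

/-- Factorisations through a monomorphism glue. -/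
theorem exists_factor_of_cover [Mono j] {W : Scheme.{u}} (a : W ⟶ Z)
    (h : ∀ w : W, ∃ U : W.Opens, w ∈ U ∧ ∃ l : U.toScheme ⟶ Y, l ≫ j = U.ι ≫ a) :
    ∃ l : W ⟶ Y, l ≫ j = a := by
  choose U hU l hl using h
  let 𝒰 := W.openCoverOfIsOpenCover U (Opens.ext (Set.eq_univ_of_forall fun w => by
    simp only [Opens.coe_iSup, Set.mem_iUnion]; exact ⟨w, hU w⟩))
  refine ⟨𝒰.glueMorphisms l fun x y => ?_, 𝒰.hom_ext _ _ fun x => ?_⟩
  · rw [← cancel_mono j, Category.assoc, Category.assoc, hl, hl, ← Category.assoc, ← Category.assoc]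
    exact congrArg (· ≫ a) pullback.condition
  · rw [Scheme.Cover.ι_glueMorphisms_assoc]
    exact hl x

theorem factorsOn_of_local_target [Mono j] {g : T ⟶ S}
    (h : ∀ t : T, ∃ U : T.Opens, t ∈ U ∧ FactorsOn f j (U.ι ≫ g)) : FactorsOn f j g := by
  intro W a b w
  refine exists_factor_of_cover a fun x => ?_
  obtain ⟨U, hxU, hU⟩ := h (b x)
  refine ⟨b ⁻¹ᵁ U, hxU, hU _ (b ∣_ U) ?_⟩
  rw [morphismRestrict_ι_assoc, Category.assoc, w]

theorem factorsOn_comp_iff {T' : Scheme.{u}} (h : T ⟶ S) (ψ : T' ⟶ T) :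
    FactorsOn f j (ψ ≫ h) ↔ FactorsOn (pullback.snd f h) (pullback.snd j (pullback.fst f h)) ψ := by
  constructor
  · intro hh W a b w
    obtain ⟨l, hl⟩ := hh (a ≫ pullback.fst f h) b (by simp [pullback.condition, reassoc_of% w])
    exact ⟨pullback.lift l a hl, pullback.lift_snd _ _ _⟩
  · intro hh W a b w
    obtain ⟨l, hl⟩ := hh (pullback.lift a (b ≫ ψ) (by simpa using w)) b (pullback.lift_snd _ _ _)
    exact ⟨l ≫ pullback.fst _ _, by rw [Category.assoc, pullback.condition, reassoc_of% hl, pullback.lift_fst]⟩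

theorem factorsOn_iff_cover [Mono j] (g : T ⟶ S) {ι : Type u} (V : ι → Z.Opens) (hV : ∀ z : Z, ∃ i, z ∈ V i) :
    FactorsOn f j g ↔ ∀ i, FactorsOn ((V i).ι ≫ f) (j ∣_ V i) g := by
  constructor
  · intro h i W a b w
    obtain ⟨l, hl⟩ := h (a ≫ (V i).ι) b (by simpa using w)
    exact ⟨(isPullback_morphismRestrict j (V i)).lift a l hl.symm, IsPullback.lift_fst _ _ _ _⟩
  · intro h W a b w
    refine exists_factor_of_cover a fun x => ?_
    obtain ⟨i, hi⟩ := hV (a x)
    obtain ⟨l, hl⟩ := h i (a ∣_ V i) ((a ⁻¹ᵁ V i).ι ≫ b)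
      (by rw [morphismRestrict_ι_assoc, Category.assoc, w])
    exact ⟨a ⁻¹ᵁ V i, hi, l ≫ (j ⁻¹ᵁ V i).ι,
      by rw [Category.assoc, ← morphismRestrict_ι, reassoc_of% hl, morphismRestrict_ι]⟩

theorem factorsOn_of_fppf [Mono j] {g : T ⟶ S} {T' : Scheme.{u}} (k : T' ⟶ T) [Flat k] [Surjective k]
    [QuasiCompact k] (h : FactorsOn f j (k ≫ g)) : FactorsOn f j g := by
  intro W a b w
  let p : pullback b k ⟶ W := pullback.fst b k
  obtain ⟨l', hl'⟩ := h (p ≫ a) (pullback.snd b k) (by
    rw [Category.assoc, w, pullback.condition_assoc])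
  -- the base change of `pullback j a` along the cover is an isomorphism
  haveI : IsSplitEpi (pullback.snd (pullback.snd j a) p) :=
    ⟨⟨⟨pullback.lift (pullback.lift l' p hl') (𝟙 _) (by simp), pullback.lift_snd _ _ _⟩⟩⟩
  haveI : IsIso (pullback.snd (pullback.snd j a) p) := isIso_of_mono_of_isSplitEpi _
  haveI : Flat p := inferInstance
  haveI : Surjective p := inferInstance
  haveI : QuasiCompact p := inferInstance
  haveI : IsIso (pullback.snd j a) :=
    MorphismProperty.of_isPullback_of_descendsAlong (P := MorphismProperty.isomorphisms Scheme)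
      (Q := @Surjective ⊓ @Flat ⊓ @QuasiCompact) (IsPullback.of_hasPullback (pullback.snd j a) p).flip
      ⟨⟨inferInstance, inferInstance⟩, inferInstance⟩ ‹IsIso (pullback.snd (pullback.snd j a) p)›
  exact ⟨inv (pullback.snd j a) ≫ pullback.fst j a, by simp [pullback.condition]⟩

/-- The affine case: the base change lands in the closed subscheme iff the coefficient ideal dies. -/
theorem factorsOn_affine_iff {R A B : Type u} [CommRing R] [CommRing A] [CommRing B] [Algebra R A] [Algebra R B]
    [Module.Projective R A] (J : Ideal A) :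
    FactorsOn (Spec.map (CommRingCat.ofHom (algebraMap R A))) (Spec.map (CommRingCat.ofHom (Ideal.Quotient.mk J)))
      (Spec.map (CommRingCat.ofHom (algebraMap R B))) ↔ coeff R J ≤ RingHom.ker (algebraMap R B) := by
  rw [← forall_tmul_eq_zero_iff J B]
  let e := pullbackSpecIso R A B
  constructor
  · intro h a ha
    obtain ⟨l, hl⟩ := h (e.inv ≫ pullback.fst _ _) (e.inv ≫ pullback.snd _ _) (by simp [pullback.condition])
    obtain ⟨ψ, rfl⟩ := Spec.map_surjective l
    rw [pullbackSpecIso_inv_fst, ← Spec.map_comp] at hl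
    have := congrArg (fun q => q.hom a) (Spec.map_injective hl)
    simp only [CommRingCat.hom_comp, CommRingCat.hom_ofHom, RingHom.comp_apply] at this
    rw [Ideal.Quotient.eq_zero_iff_mem.2 ha, map_zero] at this
    exact this.symm
  · intro h W a b w
    let L : (A ⧸ J) →+* A ⊗[R] B := Ideal.Quotient.lift J Algebra.TensorProduct.includeLeftRingHom h
    refine ⟨pullback.lift a b w ≫ e.hom ≫ Spec.map (CommRingCat.ofHom L), ?_⟩
    rw [Category.assoc, Category.assoc, ← Spec.map_comp,
      show CommRingCat.ofHom (Ideal.Quotient.mk J) ≫ CommRingCat.ofHom L =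
        CommRingCat.ofHom Algebra.TensorProduct.includeLeftRingHom from rfl]
    have := pullbackSpecIso_hom_fst R A B
    erw [this]
    exact pullback.lift_fst _ _ _

end Groth.Agent.WeilClosedLib
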