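import Groth.Agent.WeilClosedLib.Global
import Groth.Prelude.Def_SGA3x
/-!
Weil restriction of a closed subscheme along an essentially free morphism.
-/

set_option autoImplicit false
set_option backward.isDefEq.respectTransparency false
set_option backward.isDefEq.respectTransparency.types false
set_option linter.style.haveILetI false

universe u

open CategoryTheory CategoryTheory.Limits AlgebraicGeometry TopologicalSpace TensorProduct

noncomputable section

namespace Groth.Agent.WeilClosedLib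

variable {S Z Y : Scheme.{u}} {f : Z ⟶ S} {j : Y ⟶ Z}

theorem exists_repBy_of_affine_cover [IsClosedImmersion j] {S' : Scheme.{u}} [IsAffine S'] (g : S' ⟶ S)
    (hcov : ∀ x : ↥(pullback f g), ∃ V : (pullback f g).Opens, x ∈ V ∧ IsAffineOpen V ∧
      (letI := (V.ι ≫ pullback.snd f g).appTop.hom.toAlgebra; Module.Projective Γ(S', ⊤) Γ(↑V, ⊤))) :
    ∃ c : Ideal Γ(S', ⊤), RepBy f j (S'.isoSpec.inv ≫ g) c ∧
      (QuasiCompact f ∧ LocallyOfFinitePresentation j → c.FG) := by
  classical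
  choose V hxV hVa hproj using hcov
  obtain ⟨s, hs, hfin⟩ : ∃ s : Set ↥(pullback f g), (∀ z, ∃ i : s, z ∈ V i.1) ∧ (QuasiCompact f → s.Finite) := by
    by_cases hq : QuasiCompact f
    · haveI : CompactSpace ↥(pullback f g) := QuasiCompact.compactSpace_of_compactSpace (pullback.snd f g)
      obtain ⟨t, ht⟩ := CompactSpace.isCompact_univ.elim_finite_subcover
        (fun i => (V i : Set ↥(pullback f g))) (fun i => (V i).2) fun z _ => Set.mem_iUnion.2 ⟨z, hxV z⟩
      refine ⟨t, fun z => ?_, fun _ => t.finite_toSet⟩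
      obtain ⟨i, hi, hz⟩ := Set.mem_iUnion₂.1 (ht (Set.mem_univ z))
      exact ⟨⟨i, hi⟩, hz⟩
    · exact ⟨Set.univ, fun z => ⟨⟨z, trivial⟩, hxV z⟩, fun h => absurd h hq⟩
  haveI : ∀ i, IsAffine (V i).toScheme := hVa
  let h := S'.isoSpec.inv ≫ g
  let m : pullback f h ⟶ pullback f g :=
    pullback.lift (pullback.fst _ _) (pullback.snd _ _ ≫ S'.isoSpec.inv) (by
      rw [Category.assoc]; exact pullback.condition)
  let m' : pullback f g ⟶ pullback f h :=
    pullback.lift (pullback.fst _ _) (pullback.snd _ _ ≫ S'.isoSpec.hom) (by simp [h, pullback.condition])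
  haveI : IsIso m' := ⟨m, pullback.hom_ext (by simp [m, m']) (by simp [m, m']),
    pullback.hom_ext (by simp [m, m']) (by simp [m, m'])⟩
  let A : s → CommRingCat.{u} := fun i => Γ((V i.1).toScheme, ⊤)
  let v : ∀ i : s, Spec (A i) ⟶ pullback f h := fun i => (V i.1).toScheme.isoSpec.inv ≫ (V i.1).ι ≫ m'
  haveI : ∀ i, IsOpenImmersion (v i) := fun i => inferInstance
  obtain ⟨c, hc, hfg⟩ := exists_repBy_of_cover (j := j) (h := h) A v (fun z => by
      obtain ⟨i, hi⟩ := hs (inv m' z)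
      refine ⟨i, (V i.1).toScheme.isoSpec.hom ⟨_, hi⟩, ?_⟩
      show ((V i.1).toScheme.isoSpec.hom ≫ (V i.1).toScheme.isoSpec.inv ≫ (V i.1).ι ≫ m') ⟨_, hi⟩ = z
      rw [Iso.hom_inv_id_assoc]
      show m' (inv m' z) = z
      rw [← Scheme.Hom.comp_apply, IsIso.inv_hom_id]
      rfl)
    (fun i => ((V i.1).ι ≫ pullback.snd f g).appTop) (fun i => by
      simp only [v, m', Category.assoc, pullback.lift_snd]
      rw [Iso.inv_comp_eq, ← Category.assoc (V i.1).ι, Scheme.isoSpec_hom_naturality])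
    fun i => hproj i.1
  exact ⟨c, hc, fun hP => hfg (hfin hP.1).to_subtype hP.2⟩

theorem exists_closed_of_essentiallyFree (hf : SGA3x.IsEssentiallyFree f) [IsClosedImmersion j] :
    ∃ (T : Scheme.{u}) (t : T ⟶ S), IsClosedImmersion t ∧
      (∀ (S' : Scheme.{u}) (g : S' ⟶ S), (∃ g' : S' ⟶ T, g' ≫ t = g) ↔ FactorsOn f j g) ∧
      (QuasiCompact f ∧ LocallyOfFinitePresentation j → LocallyOfFinitePresentation t) := by
  refine exists_closed_rep fun s => ?_
  obtain ⟨U, hsU, hU, S', _, g, hgf, hgs, hcov⟩ := hf s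
  haveI := hgf; haveI := hgs
  obtain ⟨c', hc', hfg'⟩ := exists_repBy_of_affine_cover (j := j) (g ≫ U.ι) hcov
  let ψ : Γ(S, U) ⟶ Γ(S', ⊤) := Spec.preimage (S'.isoSpec.inv ≫ g ≫ hU.isoSpec.hom)
  have hψ : Spec.map ψ ≫ hU.fromSpec = S'.isoSpec.inv ≫ g ≫ U.ι := by
    rw [Spec.map_preimage]; simp [IsAffineOpen.isoSpec_hom]
  rw [← hψ] at hc'
  haveI : Flat (Spec.map ψ) := by rw [Spec.map_preimage]; infer_instance
  have hflat : ψ.hom.Flat := (HasRingHomProperty.Spec_iff (P := @Flat)).1 inferInstance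
  have hs : Surjective (Spec.map ψ) := by rw [Spec.map_preimage]; infer_instance
  obtain ⟨hrep, hmap⟩ := hc'.descend ψ hflat hs
  refine ⟨U, hU, _, hsU, hrep, fun hP => ?_⟩
  algebraize [ψ.hom]
  haveI : Module.FaithfullyFlat Γ(S, U) Γ(S', ⊤) :=
    RingHom.faithfullyFlat_algebraMap_iff.1 (RingHom.FaithfullyFlat.iff_flat_and_comap_surjective.2 ⟨hflat, hs.surj⟩)
  refine fg_of_fg_map (R' := Γ(S', ⊤)) _ ?_
  rw [show algebraMap Γ(S, U) Γ(S', ⊤) = ψ.hom from rfl, hmap]
  exact hfg' hP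

theorem isEssentiallyFree_of_field {k : Type u} [Field k] {X : Scheme.{u}} (f : X ⟶ Spec (CommRingCat.of k)) :
    SGA3x.IsEssentiallyFree f := by
  intro s
  haveI : IsAffine ((⊤ : (Spec (CommRingCat.of k)).Opens) : Scheme.{u}) := isAffineOpen_top _
  refine ⟨⊤, trivial, isAffineOpen_top _, _, inferInstance, 𝟙 _, inferInstance, inferInstance, fun x => ?_⟩
  obtain ⟨V, hV, hxV, -⟩ := exists_isAffineOpen_mem_and_subset (x := x) (U := ⊤) trivial
  refine ⟨V, hxV, hV, ?_⟩
  let R := Γ(((⊤ : (Spec (CommRingCat.of k)).Opens) : Scheme.{u}), ⊤)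
  let e : k ≃+* R := ((Scheme.ΓSpecIso (CommRingCat.of k)).symm ≪≫
    (⊤ : (Spec (CommRingCat.of k)).Opens).topIso.symm).commRingCatIsoToRingEquiv
  letI : Field R := (MulEquiv.isField (Field.toIsField k) e.symm.toMulEquiv).toField
  letI := (V.ι ≫ pullback.snd f (𝟙 _ ≫ (⊤ : (Spec (CommRingCat.of k)).Opens).ι)).appTop.hom.toAlgebra
  haveI : Module.Free R Γ(↑V, ⊤) := Module.Free.of_divisionRing _ _
  exact Module.Projective.of_free

theorem isEssentiallyFree_baseChange {X S' : Scheme.{u}} (f : X ⟶ S) (g : S' ⟶ S)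
    (hf : SGA3x.IsEssentiallyFree f) : SGA3x.IsEssentiallyFree (pullback.snd f g) := by
  intro s'
  obtain ⟨U, hsU, hU, T, _, k, hkf, hks, hcov⟩ := hf (g s')
  haveI := hkf; haveI := hks
  obtain ⟨U', hU', hsU', hle⟩ := exists_isAffineOpen_mem_and_subset (x := s') (U := g ⁻¹ᵁ U) hsU
  haveI : IsAffine U.toScheme := hU
  haveI : IsAffine U'.toScheme := hU'
  let gU : U'.toScheme ⟶ U.toScheme := g.resLE U U' hle
  refine ⟨U', hsU', hU', pullback k gU, inferInstance, pullback.snd k gU, inferInstance, inferInstance, fun x => ?_⟩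
  -- pull back the given cover along `pullback k gU ⟶ T`
  let p := pullback.fst k gU
  let g₁ := k ≫ U.ι
  let g₂ := pullback.snd k gU ≫ U'.ι
  let P := pullback (pullback.snd f g) g₂
  have hg : g₂ ≫ g = p ≫ g₁ := by
    simp only [g₂, g₁, p, Category.assoc, pullback.condition_assoc, gU, Scheme.Hom.resLE_comp_ι]
  have sq₁ : IsPullback (pullback.fst (pullback.snd f g) g₂ ≫ pullback.fst f g) (pullback.snd (pullback.snd f g) g₂)
      f (p ≫ g₁) := hg ▸ (IsPullback.of_hasPullback _ _).paste_horiz (IsPullback.of_hasPullback f g)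
  let q : P ⟶ pullback f g₁ := pullback.lift (pullback.fst (pullback.snd f g) g₂ ≫ pullback.fst f g)
    (pullback.snd (pullback.snd f g) g₂ ≫ p) (by rw [sq₁.w, Category.assoc])
  have sq₂ : IsPullback q (pullback.snd (pullback.snd f g) g₂) (pullback.snd f g₁) p :=
    IsPullback.of_right (by rw [pullback.lift_fst]; exact sq₁) (pullback.lift_snd _ _ _)
      (IsPullback.of_hasPullback f g₁)
  obtain ⟨V, hxV, hV, hproj⟩ := hcov (q x)
  haveI : IsAffine V.toScheme := hV
  have sq₃ : IsPullback (q ∣_ V) ((q ⁻¹ᵁ V).ι ≫ pullback.snd (pullback.snd f g) g₂)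
      (V.ι ≫ pullback.snd f g₁) p :=
    (isPullback_morphismRestrict q V).paste_vert sq₂
  haveI : IsAffine (q ⁻¹ᵁ V).toScheme := IsAffine.of_isIso sq₃.isoPullback.hom
  refine ⟨q ⁻¹ᵁ V, hxV, inferInstanceAs (IsAffine (q ⁻¹ᵁ V).toScheme), ?_⟩
  have hpo := (isPushout_appTop_of_isPullback sq₃).flip
  let R := Γ(T, ⊤)
  let A := Γ(↑V, ⊤)
  let T' := Γ(pullback k gU, ⊤)
  let A' := Γ(↑(q ⁻¹ᵁ V), ⊤)
  letI : Algebra R A := (V.ι ≫ pullback.snd f g₁).appTop.hom.toAlgebra
  letI : Algebra R T' := p.appTop.hom.toAlgebra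
  letI : Algebra T' A' := ((q ⁻¹ᵁ V).ι ≫ pullback.snd (pullback.snd f g) g₂).appTop.hom.toAlgebra
  letI : Algebra A A' := (q ∣_ V).appTop.hom.toAlgebra
  letI : Algebra R A' := ((algebraMap T' A').comp (algebraMap R T')).toAlgebra
  haveI : IsScalarTower R T' A' := .of_algebraMap_eq' rfl
  haveI : IsScalarTower R A A' := .of_algebraMap_eq' (congrArg CommRingCat.Hom.hom hpo.w)
  haveI : Algebra.IsPushout R T' A A' := CommRingCat.isPushout_iff_isPushout.1 hpo
  haveI : Module.Projective R A := hproj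
  exact Module.Projective.of_equiv (Algebra.IsPushout.equiv R T' A A').toLinearEquiv

end Groth.Agent.WeilClosedLib
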