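import Groth.Agent.WeilClosedLib.Transporter
/-!
Finite locally free morphisms are essentially free.
-/

set_option autoImplicit false
set_option backward.isDefEq.respectTransparency false
set_option backward.isDefEq.respectTransparency.types false
set_option linter.style.haveILetI false

universe u

open CategoryTheory CategoryTheory.Limits AlgebraicGeometry TopologicalSpace

noncomputable section

namespace Groth.Agent.WeilClosedLib

theorem isEssentiallyFree_of_finite_flat {X S : Scheme.{u}} (f : X ⟶ S) [IsFinite f] [Flat f]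
    [LocallyOfFinitePresentation f] : SGA3x.IsEssentiallyFree f := by
  intro s
  obtain ⟨U, hU, hsU, -⟩ := exists_isAffineOpen_mem_and_subset (x := s) (U := ⊤) trivial
  haveI : IsAffine U.toScheme := hU
  refine ⟨U, hsU, hU, _, inferInstance, 𝟙 _, inferInstance, inferInstance, fun x => ?_⟩
  let P := pullback f (𝟙 U.toScheme ≫ U.ι)
  let q : P ⟶ U.toScheme := pullback.snd _ _
  haveI : IsFinite q := MorphismProperty.pullback_snd _ _ ‹IsFinite f›
  haveI : IsAffine P := isAffine_of_isAffineHom q
  refine ⟨⊤, trivial, isAffineOpen_top _, ?_⟩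
  let q' := (⊤ : P.Opens).ι ≫ q
  haveI : IsIso (⊤ : P.Opens).ι := by rw [← Scheme.topIso_hom]; infer_instance
  haveI : IsFinite q' := (MorphismProperty.cancel_left_of_respectsIso @IsFinite _ q).2 inferInstance
  haveI : IsAffine (⊤ : P.Opens).toScheme := isAffineOpen_top P
  letI := q'.appTop.hom.toAlgebra
  haveI : Module.Flat Γ(U.toScheme, ⊤) Γ((⊤ : P.Opens).toScheme, ⊤) := q'.flat_appTop
  haveI : Module.Finite Γ(U.toScheme, ⊤) Γ((⊤ : P.Opens).toScheme, ⊤) := q'.finite_appTop
  haveI : Algebra.FinitePresentation Γ(U.toScheme, ⊤) Γ((⊤ : P.Opens).toScheme, ⊤) :=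
    (HasRingHomProperty.iff_of_isAffine (P := @LocallyOfFinitePresentation) (f := q')).1 inferInstance
  haveI : Module.FinitePresentation Γ(U.toScheme, ⊤) Γ((⊤ : P.Opens).toScheme, ⊤) :=
    Module.FinitePresentation.of_finite_of_finitePresentation _ _
  exact Module.Flat.projective_of_finitePresentation

end Groth.Agent.WeilClosedLib
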