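import Groth.Agent.WeilClosedLib.EssFreeFlat
import Groth.Agent.GrpSchLib.Component
import Groth.Prelude.Def_Red2
/-!
Transporters as closed subschemes.
-/

set_option autoImplicit false
set_option backward.isDefEq.respectTransparency false
set_option backward.isDefEq.respectTransparency.types false
set_option linter.style.haveILetI false

universe u

open CategoryTheory CategoryTheory.Limits MonoidalCategory CartesianMonoidalCategory MonObj AlgebraicGeometry

noncomputable section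

namespace Groth.Agent.WeilClosedLib

theorem exists_grpObj_of_closed {D : Type*} [Category D] [CartesianMonoidalCategory D] {K G : D}
    [hG : GrpObj G] (m : K ⟶ G) [Mono m] (h1 : ∃ e : 𝟙_ D ⟶ K, e ≫ m = η)
    (hmul : ∀ (W : D) (a b : W ⟶ K), ∃ c : W ⟶ K, c ≫ m = (a ≫ m) * (b ≫ m))
    (hinv : ∀ (W : D) (a : W ⟶ K), ∃ c : W ⟶ K, c ≫ m = (a ≫ m)⁻¹) :
    ∃ str : GrpObj K, @IsMonHom D _ _ K G str.toMonObj hG.toMonObj m := by
  obtain ⟨e, he⟩ := h1
  obtain ⟨μ', hμ⟩ := hmul (K ⊗ K) (fst K K) (snd K K)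
  obtain ⟨i, hi⟩ := hinv K (𝟙 K)
  rw [Category.id_comp, Hom.inv_def] at hi
  have hμ' : μ' ≫ m = (m ⊗ₘ m) ≫ μ := by
    rw [hμ, Hom.mul_def]
    congr 1
    apply CartesianMonoidalCategory.hom_ext <;> simp
  have hm' : ∀ {W : D} (a b : W ⟶ K), (lift a b ≫ μ') ≫ m = (a ≫ m) * (b ≫ m) := fun a b => by
    rw [Category.assoc, hμ', ← Category.assoc, lift_map, Hom.mul_def]
  let str : GrpObj K :=
    { one := e
      mul := μ'
      one_mul := by
        rw [← cancel_mono m, show e ▷ K = lift (fst _ _ ≫ e) (snd _ _) by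
          apply CartesianMonoidalCategory.hom_ext <;> simp, hm', Category.assoc, he,
          show fst (𝟙_ D) K ≫ η = (1 : _ ⟶ G) by
            rw [Hom.one_def, toUnit_unique (fst (𝟙_ D) K) (toUnit _)], _root_.one_mul]
        simp [leftUnitor_hom]
      mul_one := by
        rw [← cancel_mono m, show K ◁ e = lift (fst _ _) (snd _ _ ≫ e) by
          apply CartesianMonoidalCategory.hom_ext <;> simp, hm', Category.assoc, he,
          show snd K (𝟙_ D) ≫ η = (1 : _ ⟶ G) by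
            rw [Hom.one_def, toUnit_unique (snd K (𝟙_ D)) (toUnit _)], _root_.mul_one]
        simp [rightUnitor_hom]
      mul_assoc := by
        rw [← cancel_mono m, show μ' ▷ K = lift (fst _ _ ≫ μ') (snd _ _) by
          apply CartesianMonoidalCategory.hom_ext <;> simp, hm',
          show (α_ K K K).hom ≫ K ◁ μ' ≫ μ' =
            lift (fst _ _ ≫ fst K K) (lift (fst _ _ ≫ snd K K) (snd _ _) ≫ μ') ≫ μ' by
            rw [← Category.assoc]
            congr 1
            apply CartesianMonoidalCategory.hom_ext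
            · simp
            · simp only [Category.assoc, whiskerLeft_snd, lift_snd]
              rw [← Category.assoc]
              congr 1
              apply CartesianMonoidalCategory.hom_ext <;> simp,
          hm', hm', ← _root_.mul_assoc]
        congr 1
        rw [← hm']
        congr 1
        rw [← comp_lift, lift_fst_snd, Category.comp_id]
      inv := i
      left_inv := by
        rw [← cancel_mono m, hm', hi, Category.id_comp, ← Hom.inv_def, inv_mul_cancel,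
          Hom.one_def, Category.assoc, he]
      right_inv := by
        rw [← cancel_mono m, hm', hi, Category.id_comp, ← Hom.inv_def, mul_inv_cancel,
          Hom.one_def, Category.assoc, he] }
  exact ⟨str, @IsMonHom.mk D _ _ K G str.toMonObj hG.toMonObj m he hμ'⟩


theorem isEssentiallyFree_iso_comp {X X' S : Scheme.{u}} (e : X' ⟶ X) [IsIso e] (f : X ⟶ S)
    (hf : SGA3x.IsEssentiallyFree f) : SGA3x.IsEssentiallyFree (e ≫ f) := by
  intro s
  obtain ⟨U, hsU, hU, T, hT, k, hkf, hks, hcov⟩ := hf s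
  refine ⟨U, hsU, hU, T, hT, k, hkf, hks, fun x => ?_⟩
  let m : pullback (e ≫ f) (k ≫ U.ι) ⟶ pullback f (k ≫ U.ι) :=
    pullback.map _ _ _ _ e (𝟙 _) (𝟙 _) (by simp) (by simp)
  have hm : m ≫ pullback.snd _ _ = pullback.snd (e ≫ f) (k ≫ U.ι) := by simp [m]
  obtain ⟨V, hxV, hV, hproj⟩ := hcov (m x)
  haveI : IsAffine T := hT
  haveI : IsAffine V.toScheme := hV
  haveI : IsAffine (m ⁻¹ᵁ V).toScheme := IsAffine.of_isIso (m ∣_ V)
  refine ⟨m ⁻¹ᵁ V, hxV, inferInstanceAs (IsAffine (m ⁻¹ᵁ V).toScheme), ?_⟩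
  let R := Γ(T, ⊤)
  letI a1 := (V.ι ≫ pullback.snd f (k ≫ U.ι)).appTop.hom.toAlgebra
  letI a2 := ((m ⁻¹ᵁ V).ι ≫ pullback.snd (e ≫ f) (k ≫ U.ι)).appTop.hom.toAlgebra
  haveI : Module.Projective R Γ(↑V, ⊤) := hproj
  have hc : (V.ι ≫ pullback.snd f (k ≫ U.ι)).appTop ≫ (m ∣_ V).appTop =
      ((m ⁻¹ᵁ V).ι ≫ pullback.snd (e ≫ f) (k ≫ U.ι)).appTop := by
    rw [← Scheme.Hom.comp_appTop, morphismRestrict_ι_assoc, hm]
  let ev : Γ(↑V, ⊤) ≃+* Γ(↑(m ⁻¹ᵁ V), ⊤) := (asIso (m ∣_ V).appTop).commRingCatIsoToRingEquiv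
  let E : Γ(↑V, ⊤) ≃ₐ[R] Γ(↑(m ⁻¹ᵁ V), ⊤) :=
    AlgEquiv.ofRingEquiv (f := ev) fun r => congrArg (fun q => q.hom r) hc
  exact Module.Projective.of_equiv E.toLinearEquiv

variable {S : Scheme.{u}}

/-- The transporter into a closed subscheme of a product along an essentially free factor. -/
theorem exists_closed_forall {G X E : Over S} (hX : SGA3x.IsEssentiallyFree X.hom) (jE : E ⟶ G ⊗ X)
    [IsClosedImmersion jE.left] :
    ∃ (T : Over S) (t : T ⟶ G), IsClosedImmersion t.left ∧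
      (∀ (S' : Over S) (g : S' ⟶ G), (∃ z : S' ⟶ T, z ≫ t = g) ↔
        ∀ (S'' : Over S) (s : S'' ⟶ S') (x : S'' ⟶ X), ∃ l : S'' ⟶ E, l ≫ jE = lift (s ≫ g) x) ∧
      (QuasiCompact X.hom → LocallyOfFinitePresentation jE.left → LocallyOfFinitePresentation t.left) := by
  have hf : SGA3x.IsEssentiallyFree (fst G X).left := by
    have h := isEssentiallyFree_iso_comp (pullbackSymmetry G.hom X.hom).hom _
      (isEssentiallyFree_baseChange X.hom G.hom hX)
    rwa [pullbackSymmetry_hom_comp_snd] at h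
  obtain ⟨T, t, ht, hrep, hlfp⟩ := exists_closed_of_essentiallyFree (j := jE.left) hf
  refine ⟨Over.mk (t ≫ G.hom), Over.homMk t rfl, ht, fun S' g => ?_, fun hq hl => ?_⟩
  · constructor
    · rintro ⟨z, rfl⟩ S'' s x
      obtain ⟨l, hl⟩ := (hrep _ (z ≫ (Over.homMk t rfl : Over.mk (t ≫ G.hom) ⟶ G)).left).1 ⟨z.left, rfl⟩
        (lift (s ≫ z ≫ Over.homMk t rfl) x).left s.left (by
          rw [← Over.comp_left, lift_fst]; rfl)
      refine ⟨Over.homMk l ?_, Over.OverMorphism.ext hl⟩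
      rw [← Over.w jE, reassoc_of% hl, Over.w]
    · intro h
      have hF : FactorsOn (fst G X).left jE.left g.left := fun W a b w => by
        let S'' : Over S := Over.mk (b ≫ S'.hom)
        let s : S'' ⟶ S' := Over.homMk b rfl
        let a' : S'' ⟶ G ⊗ X := Over.homMk a (by
          show a ≫ (G ⊗ X).hom = b ≫ S'.hom
          rw [← Over.w (fst G X), reassoc_of% w, Over.w])
        obtain ⟨l, hl⟩ := h S'' s (a' ≫ snd G X)
        refine ⟨l.left, ?_⟩
        have e : lift (s ≫ g) (a' ≫ snd G X) = a' :=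
          CartesianMonoidalCategory.hom_ext _ _ (by rw [lift_fst]; exact Over.OverMorphism.ext w.symm)
            (lift_snd _ _)
        rw [e] at hl
        exact congrArg CommaMorphism.left hl
      obtain ⟨g', hg'⟩ := (hrep _ g.left).2 hF
      refine ⟨Over.homMk g' ?_, Over.OverMorphism.ext hg'⟩
      show g' ≫ t ≫ G.hom = _
      rw [reassoc_of% hg', Over.w]
  · exact hlfp ⟨inferInstanceAs (QuasiCompact (pullback.fst G.hom X.hom)), hl⟩

/-- Where two maps to a separated scheme agree. -/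
theorem exists_closed_equalizer {P G : Over S} [IsSeparated G.hom] (c d : P ⟶ G) :
    ∃ (E : Over S) (j : E ⟶ P), IsClosedImmersion j.left ∧
      ∀ (W : Over S) (a : W ⟶ P), (∃ l : W ⟶ E, l ≫ j = a) ↔ a ≫ c = a ≫ d := by
  let q := pullback.lift c.left d.left (show c.left ≫ G.hom = d.left ≫ G.hom by rw [Over.w, Over.w])
  let E := pullback q (pullback.diagonal G.hom)
  let E' : Over S := Over.mk (pullback.fst q (pullback.diagonal G.hom) ≫ P.hom)
  let j : E' ⟶ P := Over.homMk (pullback.fst q (pullback.diagonal G.hom)) rfl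
  refine ⟨E', j, inferInstanceAs (IsClosedImmersion (pullback.fst q (pullback.diagonal G.hom))),
    fun W a => ⟨?_, fun h => ?_⟩⟩
  · rintro ⟨l, rfl⟩
    apply Over.OverMorphism.ext
    have hcond := pullback.condition (f := q) (g := pullback.diagonal G.hom)
    have h1 : pullback.fst q (pullback.diagonal G.hom) ≫ c.left = pullback.snd q (pullback.diagonal G.hom) := by
      have := congrArg (fun m => m ≫ pullback.fst G.hom G.hom) hcond
      simpa [q] using this
    have h2 : pullback.fst q (pullback.diagonal G.hom) ≫ d.left = pullback.snd q (pullback.diagonal G.hom) := by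
      have := congrArg (fun m => m ≫ pullback.snd G.hom G.hom) hcond
      simpa [q] using this
    show (l.left ≫ j.left) ≫ c.left = (l.left ≫ j.left) ≫ d.left
    rw [Category.assoc, Category.assoc]
    exact congrArg (l.left ≫ ·) (h1.trans h2.symm)
  · have h' : a.left ≫ c.left = a.left ≫ d.left := congrArg CommaMorphism.left h
    refine ⟨Over.homMk (pullback.lift a.left (a.left ≫ c.left) (pullback.hom_ext (by simp [q]) (by simp [q, h']))) ?_,
      Over.OverMorphism.ext (pullback.lift_fst _ _ _)⟩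
    show pullback.lift _ _ _ ≫ pullback.fst _ _ ≫ P.hom = _
    rw [pullback.lift_fst_assoc, Over.w]

/-- Pullback of a closed subscheme, as a predicate on points. -/
theorem exists_closed_preimage {P G Y : Over S} (c : P ⟶ G) (y : Y ⟶ G) [IsClosedImmersion y.left] :
    ∃ (E : Over S) (j : E ⟶ P), IsClosedImmersion j.left ∧
      (LocallyOfFinitePresentation y.left → LocallyOfFinitePresentation j.left) ∧
      ∀ (W : Over S) (a : W ⟶ P), (∃ l : W ⟶ E, l ≫ j = a) ↔ ∃ m : W ⟶ Y, a ≫ c = m ≫ y := by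
  let E' : Over S := Over.mk (pullback.fst c.left y.left ≫ P.hom)
  let j : E' ⟶ P := Over.homMk (pullback.fst c.left y.left) rfl
  let k : E' ⟶ Y := Over.homMk (pullback.snd c.left y.left) (by
    show _ = pullback.fst c.left y.left ≫ P.hom
    rw [← Over.w c, pullback.condition_assoc, Over.w])
  have hk : j ≫ c = k ≫ y := Over.OverMorphism.ext pullback.condition
  refine ⟨E', j, inferInstanceAs (IsClosedImmersion (pullback.fst c.left y.left)),
    fun _ => inferInstanceAs (LocallyOfFinitePresentation (pullback.fst c.left y.left)), fun W a => ⟨?_, ?_⟩⟩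
  · rintro ⟨l, rfl⟩
    exact ⟨l ≫ k, by rw [Category.assoc, hk, ← Category.assoc]⟩
  · rintro ⟨m, hm⟩
    refine ⟨Over.homMk (pullback.lift a.left m.left (congrArg CommaMorphism.left hm)) ?_,
      Over.OverMorphism.ext (pullback.lift_fst _ _ _)⟩
    show pullback.lift _ _ _ ≫ pullback.fst _ _ ≫ P.hom = _
    rw [pullback.lift_fst_assoc, Over.w]

variable {G X Y : Over S} [GrpObj G]

/-- Transporter of one morphism into another. -/
theorem exists_transporter_hom [IsSeparated G.hom] (hX : SGA3x.IsEssentiallyFree X.hom) (u v : X ⟶ G) :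
    ∃ (T : Over S) (t : T ⟶ G), IsClosedImmersion t.left ∧
      ∀ (S' : Over S) (g : S' ⟶ G), (∃ z : S' ⟶ T, z ≫ t = g) ↔
        ∀ (S'' : Over S) (s : S'' ⟶ S') (x : S'' ⟶ X), (s ≫ g) * (x ≫ u) * (s ≫ g)⁻¹ = x ≫ v := by
  obtain ⟨E, jE, hjE, hE⟩ := exists_closed_equalizer
    (fst G X * (snd G X ≫ u) * (fst G X)⁻¹) (snd G X ≫ v)
  obtain ⟨T, t, ht, hT, -⟩ := exists_closed_forall hX jE
  refine ⟨T, t, ht, fun S' g => (hT S' g).trans (forall₃_congr fun S'' s x => ?_)⟩
  rw [hE]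
  simp [MonObj.comp_mul, GrpObj.comp_inv]

/-- Transporter of a morphism into a closed subscheme. -/
theorem exists_transporter_into (hX : SGA3x.IsEssentiallyFree X.hom) (u : X ⟶ G) (y : Y ⟶ G)
    [IsClosedImmersion y.left] :
    ∃ (T : Over S) (t : T ⟶ G), IsClosedImmersion t.left ∧
      (∀ (S' : Over S) (g : S' ⟶ G), (∃ z : S' ⟶ T, z ≫ t = g) ↔
        ∀ (S'' : Over S) (s : S'' ⟶ S') (x : S'' ⟶ X), ∃ x' : S'' ⟶ Y, (s ≫ g) * (x ≫ u) * (s ≫ g)⁻¹ = x' ≫ y) ∧
      (QuasiCompact X.hom → LocallyOfFinitePresentation y.left → LocallyOfFinitePresentation t.left) := by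
  obtain ⟨E, jE, hjE, hlE, hE⟩ := exists_closed_preimage (fst G X * (snd G X ≫ u) * (fst G X)⁻¹) y
  obtain ⟨T, t, ht, hT, hl⟩ := exists_closed_forall hX jE
  refine ⟨T, t, ht, fun S' g => (hT S' g).trans (forall₃_congr fun S'' s x => ?_), fun hq hy => hl hq (hlE hy)⟩
  rw [hE]
  simp [MonObj.comp_mul, GrpObj.comp_inv]

/-- Transporter by the inverse. -/
theorem exists_transporter_into' (hX : SGA3x.IsEssentiallyFree X.hom) (u : X ⟶ G) (y : Y ⟶ G)
    [IsClosedImmersion y.left] :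
    ∃ (T : Over S) (t : T ⟶ G), IsClosedImmersion t.left ∧
      ∀ (S' : Over S) (g : S' ⟶ G), (∃ z : S' ⟶ T, z ≫ t = g) ↔
        ∀ (S'' : Over S) (s : S'' ⟶ S') (x : S'' ⟶ X), ∃ x' : S'' ⟶ Y, (s ≫ g)⁻¹ * (x ≫ u) * (s ≫ g) = x' ≫ y := by
  obtain ⟨E, jE, hjE, -, hE⟩ := exists_closed_preimage ((fst G X)⁻¹ * (snd G X ≫ u) * fst G X) y
  obtain ⟨T, t, ht, hT, -⟩ := exists_closed_forall hX jE
  refine ⟨T, t, ht, fun S' g => (hT S' g).trans (forall₃_congr fun S'' s x => ?_)⟩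
  rw [hE]
  simp [MonObj.comp_mul, GrpObj.comp_inv]

/-- Intersection of two closed subschemes of `G`. -/
theorem exists_closed_inter {T₁ T₂ : Over S} (t₁ : T₁ ⟶ G) (t₂ : T₂ ⟶ G) [IsClosedImmersion t₁.left]
    [IsClosedImmersion t₂.left] :
    ∃ (T : Over S) (t : T ⟶ G), IsClosedImmersion t.left ∧
      ∀ (S' : Over S) (g : S' ⟶ G), (∃ z : S' ⟶ T, z ≫ t = g) ↔
        (∃ z : S' ⟶ T₁, z ≫ t₁ = g) ∧ (∃ z : S' ⟶ T₂, z ≫ t₂ = g) := by
  obtain ⟨E, j, hj, -, hE⟩ := exists_closed_preimage t₁ t₂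
  refine ⟨E, j ≫ t₁, inferInstanceAs (IsClosedImmersion (j.left ≫ t₁.left)), fun S' g => ⟨?_, ?_⟩⟩
  · rintro ⟨z, rfl⟩
    obtain ⟨m, hm⟩ := (hE S' (z ≫ j)).1 ⟨z, rfl⟩
    exact ⟨⟨z ≫ j, by rw [Category.assoc]⟩, ⟨m, by rw [← Category.assoc, ← hm]⟩⟩
  · rintro ⟨⟨z₁, rfl⟩, ⟨z₂, hz₂⟩⟩
    obtain ⟨l, hl⟩ := (hE S' z₁).2 ⟨z₂, hz₂.symm⟩
    exact ⟨l, by rw [← Category.assoc, hl]⟩

/-- The normaliser of a closed subgroup with essentially free structure map. -/
theorem exists_normalizer {H : Over S} [GrpObj H] (hH : SGA3x.IsEssentiallyFree H.hom) (h : H ⟶ G)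
    [IsClosedImmersion h.left] :
    ∃ (N : Over S) (_ : GrpObj N) (n : N ⟶ G), IsClosedImmersion n.left ∧ Red.IsNormalizerOf h n := by
  obtain ⟨T₁, t₁, ht₁, hT₁, -⟩ := exists_transporter_into hH h h
  obtain ⟨T₂, t₂, ht₂, hT₂⟩ := exists_transporter_into' hH h h
  obtain ⟨N, n, hn, hN⟩ := exists_closed_inter t₁ t₂
  let Q : ∀ (S' : Over S), (S' ⟶ G) → Prop := fun S' g => ∀ (S'' : Over S) (s : S'' ⟶ S') (x : S'' ⟶ H),
      (∃ x' : S'' ⟶ H, (s ≫ g) * (x ≫ h) * (s ≫ g)⁻¹ = x' ≫ h) ∧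
      (∃ x' : S'' ⟶ H, (s ≫ g)⁻¹ * (x ≫ h) * (s ≫ g) = x' ≫ h)
  have key : ∀ (S' : Over S) (g : S' ⟶ G), (∃ z : S' ⟶ N, z ≫ n = g) ↔ Q S' g := fun S' g => by
    rw [hN, hT₁, hT₂]
    exact ⟨fun h' S'' s x => ⟨h'.1 S'' s x, h'.2 S'' s x⟩,
      fun h' => ⟨fun S'' s x => (h' S'' s x).1, fun S'' s x => (h' S'' s x).2⟩⟩
  haveI : Mono n := ⟨fun a b e => Over.OverMorphism.ext ((cancel_mono n.left).1 (congrArg CommaMorphism.left e))⟩
  obtain ⟨str, hmon⟩ := exists_grpObj_of_closed n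
    ((key _ η[G]).2 fun S'' s x => by
      have e : s ≫ η[G] = 1 := by rw [Hom.one_def, toUnit_unique s (toUnit _)]
      exact ⟨⟨x, by simp [e]⟩, ⟨x, by simp [e]⟩⟩)
    (fun W a b => (key W ((a ≫ n) * (b ≫ n))).2 fun S'' s x => by
      have qa := (key W (a ≫ n)).1 ⟨a, rfl⟩
      have qb := (key W (b ≫ n)).1 ⟨b, rfl⟩
      refine ⟨?_, ?_⟩
      · obtain ⟨x₁, h₁⟩ := (qb S'' s x).1
        obtain ⟨x₂, h₂⟩ := (qa S'' s x₁).1
        refine ⟨x₂, ?_⟩
        rw [← h₂, ← h₁, MonObj.comp_mul]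
        group
      · obtain ⟨x₁, h₁⟩ := (qa S'' s x).2
        obtain ⟨x₂, h₂⟩ := (qb S'' s x₁).2
        refine ⟨x₂, ?_⟩
        rw [← h₂, ← h₁, MonObj.comp_mul]
        group)
    (fun W a => (key W (a ≫ n)⁻¹).2 fun S'' s x => by
      have qa := (key W (a ≫ n)).1 ⟨a, rfl⟩
      simp only [GrpObj.comp_inv, inv_inv]
      exact ⟨(qa S'' s x).2, (qa S'' s x).1⟩)
  exact ⟨N, str, n, hn, hmon, inferInstance, key⟩

end Groth.Agent.WeilClosedLib
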