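import Groth.Agent.WeilClosedLib.MultType
/-!
Equalizers of morphisms of relative schemes.
-/

set_option autoImplicit false
set_option backward.isDefEq.respectTransparency false
set_option backward.isDefEq.respectTransparency.types false
set_option linter.style.haveILetI false

universe u

open CategoryTheory CategoryTheory.Limits MonoidalCategory CartesianMonoidalCategory AlgebraicGeometry

noncomputable section

namespace Groth.Agent.WeilClosedLib

variable {S : Scheme.{u}}

/-- Where two maps agree, as a locally closed subscheme. -/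
theorem exists_immersion_equalizer {P G : Over S} (c d : P ⟶ G) :
    ∃ (E : Over S) (j : E ⟶ P), IsImmersion j.left ∧
      (IsSeparated G.hom → IsClosedImmersion j.left) ∧
      (LocallyOfFiniteType G.hom → LocallyOfFinitePresentation j.left) ∧
      ∀ (W : Over S) (a : W ⟶ P), (∃ l : W ⟶ E, l ≫ j = a) ↔ a ≫ c = a ≫ d := by
  let q := pullback.lift c.left d.left (show c.left ≫ G.hom = d.left ≫ G.hom by rw [Over.w, Over.w])
  let E' : Over S := Over.mk (pullback.fst q (pullback.diagonal G.hom) ≫ P.hom)
  let j : E' ⟶ P := Over.homMk (pullback.fst q (pullback.diagonal G.hom)) rfl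
  refine ⟨E', j, inferInstanceAs (IsImmersion (pullback.fst q (pullback.diagonal G.hom))),
    fun _ => inferInstanceAs (IsClosedImmersion (pullback.fst q (pullback.diagonal G.hom))), fun _ => ?_,
    fun W a => ⟨?_, fun h => ?_⟩⟩
  · haveI : LocallyOfFinitePresentation (pullback.diagonal G.hom ≫ pullback.snd G.hom G.hom) := by
      rw [pullback.diagonal_snd]; infer_instance
    haveI : LocallyOfFinitePresentation (pullback.diagonal G.hom) :=
      FlatLocus.locallyOfFinitePresentation_of_comp _ (pullback.snd G.hom G.hom)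
    exact inferInstanceAs (LocallyOfFinitePresentation (pullback.fst q (pullback.diagonal G.hom)))
  · rintro ⟨l, rfl⟩
    apply Over.OverMorphism.ext
    have hcond := pullback.condition (f := q) (g := pullback.diagonal G.hom)
    have h1 : pullback.fst q (pullback.diagonal G.hom) ≫ c.left = pullback.snd q (pullback.diagonal G.hom) := by
      have := congrArg (fun m => m ≫ pullback.fst G.hom G.hom) hcond
      simpa [q] using this
    have h2 : pullback.fst q (pullback.diagonal G.hom) ≫ d.left = pullback.snd q (pullback.diagonal G.hom) := by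
      have := congrArg (fun m => m ≫ pullback.snd G.hom G.hom) hcond
      simpa [q] using this
    show (l.left ≫ j.left) ≫ c.left = (l.left ≫ j.left) ≫ d.left
    rw [Category.assoc, Category.assoc]
    exact congrArg (l.left ≫ ·) (h1.trans h2.symm)
  · have h' : a.left ≫ c.left = a.left ≫ d.left := congrArg CommaMorphism.left h
    refine ⟨Over.homMk (pullback.lift a.left (a.left ≫ c.left) (pullback.hom_ext (by simp [q]) (by simp [q, h']))) ?_,
      Over.OverMorphism.ext (pullback.lift_fst _ _ _)⟩
    show pullback.lift _ _ _ ≫ pullback.fst _ _ ≫ P.hom = _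
    rw [pullback.lift_fst_assoc, Over.w]

/-- An immersion whose image is everything is a closed immersion. -/
theorem isClosedImmersion_of_surjective_range {E P : Scheme.{u}} (j : E ⟶ P) [IsImmersion j]
    (h : ∀ p : P, ∃ e, j e = p) : IsClosedImmersion j :=
  IsClosedImmersion.of_isPreimmersion j (by
    rw [Set.range_eq_univ.2 h]; exact isClosed_univ)

/-- The section of `X ⊗ F` given by a surjective section of `F` is surjective. -/
theorem exists_preimage_section {X F : Over S} (e : 𝟙_ (Over S) ⟶ F) [Surjective e.left] (z : (X ⊗ F).left) :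
    ∃ x, (lift (𝟙 X) (toUnit X ≫ e)).left x = z := by
  let p₁ := pullback.fst (snd X F).left e.left
  let p₂ : pullback (snd X F).left e.left ⟶ S := pullback.snd (snd X F).left e.left
  obtain ⟨w, hw⟩ := (inferInstance : Surjective p₁).surj z
  refine ⟨(p₁ ≫ (fst X F).left) w, ?_⟩
  rw [← Scheme.Hom.comp_apply, ← hw]
  have he : e.left ≫ F.hom = 𝟙 S := Over.w e
  have hp : p₂ = p₁ ≫ (fst X F).left ≫ X.hom := by
    have hc := pullback.condition (f := (snd X F).left) (g := e.left)
    rw [Over.w (fst X F), ← Over.w (snd X F), ← Category.assoc]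
    show p₂ = (pullback.fst _ _ ≫ (snd X F).left) ≫ F.hom
    rw [hc, Category.assoc]
    erw [he, Category.comp_id]
  let P : Over S := Over.mk (p₁ ≫ (X ⊗ F).hom)
  let m : P ⟶ X ⊗ F := Over.homMk p₁ rfl
  have : (m ≫ fst X F) ≫ lift (𝟙 X) (toUnit X ≫ e) = m := by
    apply CartesianMonoidalCategory.hom_ext
    · rw [Category.assoc, lift_fst, Category.comp_id]
    · rw [Category.assoc, lift_snd, ← Category.assoc (m ≫ fst X F)]
      apply Over.OverMorphism.ext
      show (((p₁ ≫ (fst X F).left) ≫ (toUnit X).left)) ≫ e.left = p₁ ≫ (snd X F).left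
      rw [pullback.condition]
      congr 1
      show _ = p₂
      rw [hp, Category.assoc]
      rfl
  exact congrArg (fun q : _ ⟶ (X ⊗ F).left => q w) (congrArg CommaMorphism.left this)

/-- An affine morphism with free rings of functions is essentially free. -/
theorem isEssentiallyFree_of_free_affine {X S : Scheme.{u}} (f : X ⟶ S) [IsAffineHom f]
    (hfree : ∀ s : S, ∃ U : S.affineOpens, s ∈ (U : S.Opens) ∧
      @Module.Free Γ(S, U) Γ(X, f ⁻¹ᵁ U) _ _ (f.app U).hom.toAlgebra.toModule) :
    SGA3x.IsEssentiallyFree f := by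
  refine isEssentiallyFree_of_charts f fun s => ?_
  obtain ⟨⟨U, hU⟩, hsU, hfr⟩ := hfree s
  haveI : IsAffine U.toScheme := hU
  refine ⟨U, hsU, hU, PUnit, inferInstance, fun _ => U.toScheme, fun _ => hU, fun _ => 𝟙 _, fun _ => inferInstance,
    fun p => ⟨⟨⟩, p, rfl⟩, fun _ => ⟨(f ⁻¹ᵁ U).toScheme, hU.preimage f, (f ⁻¹ᵁ U).ι, f ∣_ U, ?_, ?_⟩⟩
  · rw [Category.id_comp]
    exact (isPullback_morphismRestrict f U).flip
  · have hiso : ∀ {A B : CommRingCat.{u}} (a : A ⟶ B) [IsIso a], letI := a.hom.toAlgebra; Module.Projective A B :=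
      fun {A B} a _ => by
        letI := a.hom.toAlgebra
        exact Module.Projective.of_equiv
          (LinearEquiv.ofBijective (Algebra.linearMap A B) (ConcreteCategory.bijective_of_isIso a))
    have hp : letI := (f.app U).hom.toAlgebra; Module.Projective Γ(S, U) Γ(X, f ⁻¹ᵁ U) := by
      letI := (f.app U).hom.toAlgebra
      haveI : Module.Free Γ(S, U) Γ(X, f ⁻¹ᵁ U) := hfr
      exact Module.Projective.of_free
    refine projective_trans U.topIso.hom (f.app U ≫ (f ⁻¹ᵁ U).topIso.inv) _ ?_ (hiso _)
      (projective_trans _ _ _ rfl hp (hiso _))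
    rw [morphismRestrict_appTop]
    simp only [Scheme.Opens.topIso_hom, Scheme.Opens.topIso_inv, Scheme.Hom.app_eq_appLE, Scheme.Hom.map_appLE,
      Scheme.Hom.appLE_map]
    rfl

end Groth.Agent.WeilClosedLib
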