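import Groth.Agent.WeilClosedLib.Factors
/-!
Representability of the functor of base changes factoring through a closed subscheme, over affine charts.
-/

set_option autoImplicit false
set_option backward.isDefEq.respectTransparency false
set_option backward.isDefEq.respectTransparency.types false
set_option linter.style.haveILetI false

universe u

open CategoryTheory CategoryTheory.Limits AlgebraicGeometry TopologicalSpace TensorProduct

noncomputable section

namespace Groth.Agent.WeilClosedLib

variable {S Z Y : Scheme.{u}} (f : Z ⟶ S) (j : Y ⟶ Z)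

/-- The ideal `c` represents `FactorsOn` on the chart `h`. -/
def RepBy {R : CommRingCat.{u}} (h : Spec R ⟶ S) (c : Ideal R) : Prop :=
  ∀ (B : CommRingCat.{u}) (φ : R ⟶ B), FactorsOn f j (Spec.map φ ≫ h) ↔ c ≤ RingHom.ker φ.hom

variable {f j} {R : CommRingCat.{u}} {h : Spec R ⟶ S} {c : Ideal R}

theorem RepBy.unique (hc : RepBy f j h c) {c' : Ideal R} (hc' : RepBy f j h c') : c = c' := by
  suffices ∀ {a b : Ideal R}, RepBy f j h a → RepBy f j h b → a ≤ b from le_antisymm (this hc hc') (this hc' hc)
  intro a b ha hb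
  have := (ha _ (CommRingCat.ofHom (Ideal.Quotient.mk b))).1 ((hb _ _).2 Ideal.mk_ker.ge)
  exact this.trans Ideal.mk_ker.le

theorem RepBy.baseChange (hc : RepBy f j h c) {R' : CommRingCat.{u}} (ψ : R ⟶ R') :
    RepBy f j (Spec.map ψ ≫ h) (c.map ψ.hom) := by
  intro B φ
  rw [← Spec.map_comp_assoc, hc, Ideal.map_le_iff_le_comap]
  rfl

/-- Descent along a faithfully flat extension of the chart. -/
theorem RepBy.descend [Mono j] {R' : CommRingCat.{u}} (ψ : R ⟶ R') (hψ : ψ.hom.Flat)
    (hs : Surjective (Spec.map ψ)) {c' : Ideal R'} (hc' : RepBy f j (Spec.map ψ ≫ h) c') :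
    RepBy f j h (c'.comap ψ.hom) ∧ (c'.comap ψ.hom).map ψ.hom = c' := by
  algebraize [ψ.hom]
  haveI : Module.Flat R R' := hψ
  let inL : R' →ₐ[R] R' ⊗[R] R' := Algebra.TensorProduct.includeLeft
  let inR : R' →ₐ[R] R' ⊗[R] R' := Algebra.TensorProduct.includeRight
  have hLR : ψ ≫ CommRingCat.ofHom inL.toRingHom = ψ ≫ CommRingCat.ofHom inR.toRingHom := by
    ext r
    exact (inL.commutes r).trans (inR.commutes r).symm
  have hmap : (c'.comap ψ.hom).map ψ.hom = c' := by
    refine map_comap_eq_of_flat (R := R) c' ?_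
    have h1 := hc'.baseChange (CommRingCat.ofHom inL.toRingHom)
    have h2 := hc'.baseChange (CommRingCat.ofHom inR.toRingHom)
    rw [← Spec.map_comp_assoc, hLR, Spec.map_comp_assoc] at h1
    exact (h1.unique h2).le
  haveI : Surjective (Spec.map ψ) := hs
  refine ⟨fun B φ => ?_, hmap⟩
  algebraize [φ.hom]
  let θ : B ⟶ CommRingCat.of (B ⊗[R] R') := CommRingCat.ofHom Algebra.TensorProduct.includeLeftRingHom
  let θ' : R' ⟶ CommRingCat.of (B ⊗[R] R') :=
    CommRingCat.ofHom (Algebra.TensorProduct.includeRight : R' →ₐ[R] B ⊗[R] R').toRingHom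
  have hθ : φ ≫ θ = ψ ≫ θ' := by
    ext r
    exact (Algebra.TensorProduct.includeLeft.commutes r).trans
      ((Algebra.TensorProduct.includeRight : R' →ₐ[R] B ⊗[R] R').commutes r).symm
  have sq : IsPullback (Spec.map θ) (Spec.map θ') (Spec.map φ) (Spec.map ψ) :=
    isPullback_SpecMap_of_isPushout _ _ _ _ (CommRingCat.isPushout_tensorProduct R B R')
  haveI : Flat (Spec.map ψ) := HasRingHomProperty.Spec_iff.2 hψ
  haveI : Flat (Spec.map θ) := MorphismProperty.of_isPullback sq.flip ‹Flat (Spec.map ψ)›
  haveI : Surjective (Spec.map θ) := MorphismProperty.of_isPullback sq.flip hs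
  have hiff : FactorsOn f j (Spec.map φ ≫ h) ↔ c' ≤ RingHom.ker θ'.hom := by
    rw [← hc', ← reassoc_of% sq.w]
    exact ⟨fun hh => hh.comp _, fun hh => factorsOn_of_fppf (Spec.map θ) hh⟩
  rw [hiff]
  have hinj : Function.Injective θ.hom := by
    have hff : θ.hom.FaithfullyFlat := RingHom.FaithfullyFlat.iff_flat_and_comap_surjective.2
      ⟨HasRingHomProperty.Spec_iff.1 ‹Flat (Spec.map θ)›, (Spec.map θ).surjective⟩
    exact hff.injective
  conv_lhs => rw [← hmap]
  constructor
  · intro hh r hr
    refine hinj ?_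
    rw [map_zero]
    rw [show θ.hom (φ.hom r) = θ'.hom (ψ.hom r) from congrArg (fun q => q.hom r) hθ]
    exact hh (Ideal.mem_map_of_mem _ hr)
  · intro hh
    rw [Ideal.map_le_iff_le_comap]
    intro r hr
    show θ'.hom (ψ.hom r) = 0
    rw [← show θ.hom (φ.hom r) = θ'.hom (ψ.hom r) from congrArg (fun q => q.hom r) hθ, RingHom.mem_ker.1 (hh hr), map_zero]

theorem factorsOn_iso_left {Y' T : Scheme.{u}} (e : Y' ≅ Y) (g : T ⟶ S) :
    FactorsOn f (e.hom ≫ j) g ↔ FactorsOn f j g := by
  refine forall_congr' fun W => forall_congr' fun a => forall₂_congr fun b w => ?_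
  exact ⟨fun ⟨l, hl⟩ => ⟨l ≫ e.hom, by simpa using hl⟩, fun ⟨l, hl⟩ => ⟨l ≫ e.inv, by simpa using hl⟩⟩

/-- A chart covered by affine opens with projective rings of sections. -/
theorem exists_repBy_of_cover [IsClosedImmersion j] {ι : Type u} (A : ι → CommRingCat.{u})
    (v : ∀ i, Spec (A i) ⟶ pullback f h) [∀ i, IsOpenImmersion (v i)] (hv : ∀ z, ∃ i, z ∈ Set.range (v i))
    (α : ∀ i, R ⟶ A i) (hα : ∀ i, v i ≫ pullback.snd f h = Spec.map (α i))
    (hproj : ∀ i, letI := (α i).hom.toAlgebra; Module.Projective R (A i)) :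
    ∃ c : Ideal R, RepBy f j h c ∧ (Finite ι → LocallyOfFinitePresentation j → c.FG) := by
  have hJ : ∀ i, ∃ (J : Ideal (A i)) (e : pullback (pullback.snd j (pullback.fst f h)) (v i) ≅ Spec (.of (A i ⧸ J))),
      pullback.snd (pullback.snd j (pullback.fst f h)) (v i) =
        e.hom ≫ Spec.map (CommRingCat.ofHom (Ideal.Quotient.mk J)) :=
    fun i => IsClosedImmersion.Spec_iff.1 inferInstance
  choose J e he using hJ
  letI alg : ∀ i, Algebra R (A i) := fun i => (α i).hom.toAlgebra
  haveI : ∀ i, Module.Projective R (A i) := hproj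
  refine ⟨⨆ i, coeff R (J i), fun B φ => ?_, fun _ hlfp => ?_⟩
  · rw [factorsOn_comp_iff, iSup_le_iff]
    letI : Algebra R B := φ.hom.toAlgebra
    let jW := pullback.snd j (pullback.fst f h)
    have hi : ∀ i, FactorsOn (v i ≫ pullback.snd f h) (pullback.snd jW (v i)) (Spec.map φ) ↔
        coeff R (J i) ≤ RingHom.ker φ.hom := fun i => by
      rw [he i, factorsOn_iso_left, hα i]
      exact factorsOn_affine_iff (R := R) (B := B) (J i)
    simp only [← hi]
    constructor
    · intro hh i W a b w
      obtain ⟨l, hl⟩ := hh (a ≫ v i) b (by simpa using w)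
      exact ⟨pullback.lift l a hl, pullback.lift_snd _ _ _⟩
    · intro hh W a b w
      refine exists_factor_of_cover a fun x => ?_
      obtain ⟨i, hi⟩ := hv (a x)
      let U : W.Opens := a ⁻¹ᵁ (v i).opensRange
      let a' : U.toScheme ⟶ Spec (A i) := IsOpenImmersion.lift (v i) (U.ι ≫ a) (by
        rintro _ ⟨y, rfl⟩; exact y.2)
      have ha' : a' ≫ v i = U.ι ≫ a := IsOpenImmersion.lift_fac _ _ _
      obtain ⟨l, hl⟩ := hh i a' (U.ι ≫ b) (by rw [reassoc_of% ha', Category.assoc, w])
      exact ⟨U, hi, l ≫ pullback.fst _ _, by rw [Category.assoc, pullback.condition, reassoc_of% hl, ha']⟩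
  · have hfg : ∀ i, (coeff R (J i)).FG := fun i => by
      refine coeff_fg _ ?_
      haveI : LocallyOfFinitePresentation (pullback.snd j (pullback.fst f h)) := inferInstance
      haveI : LocallyOfFinitePresentation (pullback.snd (pullback.snd j (pullback.fst f h)) (v i)) := inferInstance
      have h1 : LocallyOfFinitePresentation (Spec.map (CommRingCat.ofHom (Ideal.Quotient.mk (J i)))) := by
        rw [show Spec.map (CommRingCat.ofHom (Ideal.Quotient.mk (J i))) = (e i).inv ≫
          pullback.snd (pullback.snd j (pullback.fst f h)) (v i) by rw [he i, Iso.inv_hom_id_assoc]]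
        infer_instance
      rw [HasRingHomProperty.Spec_iff (P := @LocallyOfFinitePresentation)] at h1
      haveI : Algebra.FinitePresentation (A i) (A i ⧸ J i) := RingHom.finitePresentation_algebraMap.1 (by exact h1)
      have h2 := Algebra.FinitePresentation.ker_fG_of_surjective (Algebra.ofId (A i) (A i ⧸ J i))
        Ideal.Quotient.mk_surjective
      rwa [show RingHom.ker (Algebra.ofId (A i) (A i ⧸ J i)).toRingHom = J i from Ideal.mk_ker] at h2
    exact Submodule.fg_iSup _ hfg

/-- The component at `i` of a homomorphism out of a finite product. -/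
theorem exists_pi_component {ι : Type u} [DecidableEq ι] (R : ι → Type u) [∀ i, CommRing (R i)] {B : Type u} [CommRing B]
    (φ : (Π i, R i) →+* B) (i : ι) :
    ∃ g : R i →+* Localization.Away (φ (Pi.single i 1)),
      g.comp (Pi.evalRingHom R i) = (algebraMap B (Localization.Away (φ (Pi.single i 1)))).comp φ ∧
      ∀ x, g x = algebraMap B _ (φ (Pi.single i x)) := by
  let e := φ (Pi.single i 1)
  let L : B →+* Localization.Away e := algebraMap B _
  have hu : IsUnit (L e) := IsLocalization.Away.algebraMap_isUnit e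
  have hid : L e = 1 := by
    refine hu.mul_left_cancel ?_
    rw [mul_one, ← map_mul, ← map_mul, ← Pi.single_mul, one_mul]
  refine ⟨{ toFun := fun x => L (φ (Pi.single i x))
            map_one' := hid
            map_mul' := fun x y => by rw [← map_mul, ← map_mul, ← Pi.single_mul]
            map_zero' := by rw [Pi.single_zero, map_zero, map_zero]
            map_add' := fun x y => by rw [← map_add, ← map_add, ← Pi.single_add] }, ?_, fun x => rfl⟩
  refine RingHom.ext fun b => ?_
  show L (φ (Pi.single i (b i))) = L (φ b)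
  refine hu.mul_left_cancel ?_
  rw [← map_mul, ← map_mul, ← map_mul, ← map_mul]
  congr 2
  ext k
  rcases eq_or_ne k i with rfl | hk
  · simp
  · simp [Pi.single_eq_of_ne hk]

/-- A finite family of charts gives a chart on the product. -/
theorem exists_repBy_pi [Mono j] {ι : Type u} [Finite ι] (R : ι → Type u) [∀ i, CommRing (R i)]
    (h : Spec (.of (Π i, R i)) ⟶ S) (c : ∀ i, Ideal (R i))
    (hc : ∀ i, RepBy f j (Spec.map (CommRingCat.ofHom (Pi.evalRingHom R i)) ≫ h) (R := .of (R i)) (c i)) :
    RepBy f j h (Ideal.pi c) := by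
  classical
  have := Fintype.ofFinite ι
  intro B φ
  constructor
  · intro hh a ha
    rw [RingHom.mem_ker, ← Finset.univ_sum_single a, map_sum]
    refine Finset.sum_eq_zero fun i _ => ?_
    obtain ⟨g, hg, hgx⟩ := exists_pi_component R φ.hom i
    let ei : B := φ.hom (Pi.single i 1)
    have h1 : FactorsOn f j (Spec.map (CommRingCat.ofHom g) ≫
        (Spec.map (CommRingCat.ofHom (Pi.evalRingHom R i)) ≫ h)) := by
      rw [← Spec.map_comp_assoc, ← CommRingCat.ofHom_comp, hg, CommRingCat.ofHom_comp, Spec.map_comp_assoc]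
      exact hh.comp _
    have h0 : algebraMap B (Localization.Away ei) (φ.hom (Pi.single i (a i))) = 0 :=
      (hgx (a i)).symm.trans ((hc i _ _).1 h1 (ha i))
    obtain ⟨⟨_, n, rfl⟩, hn⟩ := (IsLocalization.map_eq_zero_iff (Submonoid.powers ei) _ _).1 h0
    have hid : IsIdempotentElem ei := by
      show φ.hom (Pi.single i 1) * φ.hom (Pi.single i 1) = φ.hom (Pi.single i 1)
      rw [← map_mul, ← Pi.single_mul, one_mul]
    simp only at hn
    cases n with
    | zero => simpa using hn
    | succ n =>
      rw [hid.pow_succ_eq] at hn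
      rwa [← map_mul, ← Pi.single_mul, one_mul] at hn
  · intro hh
    refine factorsOn_of_local_target fun t => ?_
    obtain ⟨i, hi⟩ : ∃ i, φ.hom (Pi.single i 1) ∉ (t : PrimeSpectrum B).asIdeal := by
      by_contra hne
      simp only [not_exists, not_not] at hne
      refine (t : PrimeSpectrum B).isPrime.ne_top ((Ideal.eq_top_iff_one _).2 ?_)
      rw [← map_one φ.hom, ← Finset.univ_sum_single (1 : Π i, R i), map_sum]
      exact Submodule.sum_mem _ fun i _ => hne i
    obtain ⟨g, hg, hgx⟩ := exists_pi_component R φ.hom i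
    let B' := Localization.Away (φ.hom (Pi.single i 1))
    let k : Spec (.of B') ⟶ Spec B := Spec.map (CommRingCat.ofHom (algebraMap B B'))
    refine ⟨k.opensRange, ?_, ?_⟩
    · show t ∈ Set.range k
      exact (PrimeSpectrum.localization_away_comap_range B' (φ.hom (Pi.single i 1))).superset hi
    · rw [show k.opensRange.ι = k.isoOpensRange.inv ≫ k by simp, Category.assoc]
      refine FactorsOn.comp ?_ _
      show FactorsOn f j (Spec.map (CommRingCat.ofHom (algebraMap B B')) ≫ Spec.map φ ≫ h)
      rw [← Spec.map_comp_assoc, show φ ≫ CommRingCat.ofHom (algebraMap B B') =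
        CommRingCat.ofHom (Pi.evalRingHom R i) ≫ CommRingCat.ofHom g from CommRingCat.hom_ext hg.symm,
        Spec.map_comp_assoc]
      refine (hc i _ _).2 fun x hx => ?_
      show g x = 0
      rw [hgx, RingHom.mem_ker.1 (hh (x := Pi.single i x) fun m => ?_), map_zero]
      rcases eq_or_ne m i with rfl | hm
      · simpa using hx
      · simp [Pi.single_eq_of_ne hm]

end Groth.Agent.WeilClosedLib
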