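import Groth.Agent.WeilClosedLib.Finite
/-!
Groups of multiplicative type of finite type are essentially free.
-/

set_option autoImplicit false
set_option backward.isDefEq.respectTransparency false
set_option backward.isDefEq.respectTransparency.types false
set_option linter.style.haveILetI false

universe u

open CategoryTheory CategoryTheory.Limits AlgebraicGeometry TopologicalSpace

noncomputable section

namespace Groth.Agent.WeilClosedLib

theorem projective_appTop_of_finite_flat {A T : Scheme.{u}} [IsAffine A] [IsAffine T] (a : A ⟶ T) [IsFinite a]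
    [Flat a] [LocallyOfFinitePresentation a] :
    letI := a.appTop.hom.toAlgebra
    Module.Projective Γ(T, ⊤) Γ(A, ⊤) := by
  letI := a.appTop.hom.toAlgebra
  haveI : Module.Flat Γ(T, ⊤) Γ(A, ⊤) := a.flat_appTop
  haveI : Module.Finite Γ(T, ⊤) Γ(A, ⊤) := a.finite_appTop
  haveI : Algebra.FinitePresentation Γ(T, ⊤) Γ(A, ⊤) :=
    (HasRingHomProperty.iff_of_isAffine (P := @LocallyOfFinitePresentation) (f := a)).1 inferInstance
  haveI : Module.FinitePresentation Γ(T, ⊤) Γ(A, ⊤) :=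
    Module.FinitePresentation.of_finite_of_finitePresentation _ _
  exact Module.Flat.projective_of_finitePresentation

theorem projective_appTop_baseChange {X T T' P : Scheme.{u}} [IsAffine X] [IsAffine T] [IsAffine T'] {a : P ⟶ X}
    {q : P ⟶ T'} {p : X ⟶ T} {g : T' ⟶ T} (sq : IsPullback a q p g)
    (h : letI := p.appTop.hom.toAlgebra; Module.Projective Γ(T, ⊤) Γ(X, ⊤)) :
    letI := q.appTop.hom.toAlgebra
    Module.Projective Γ(T', ⊤) Γ(P, ⊤) := by
  haveI : IsAffine P := .of_isPullback sq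
  letI : Algebra Γ(T, ⊤) Γ(X, ⊤) := p.appTop.hom.toAlgebra
  letI : Algebra Γ(T, ⊤) Γ(T', ⊤) := g.appTop.hom.toAlgebra
  letI : Algebra Γ(T', ⊤) Γ(P, ⊤) := q.appTop.hom.toAlgebra
  letI : Algebra Γ(X, ⊤) Γ(P, ⊤) := a.appTop.hom.toAlgebra
  letI : Algebra Γ(T, ⊤) Γ(P, ⊤) := ((algebraMap Γ(T', ⊤) Γ(P, ⊤)).comp (algebraMap Γ(T, ⊤) Γ(T', ⊤))).toAlgebra
  have hpo := (isPushout_appTop_of_isPullback sq).flip
  haveI : IsScalarTower Γ(T, ⊤) Γ(T', ⊤) Γ(P, ⊤) := .of_algebraMap_eq' rfl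
  haveI : IsScalarTower Γ(T, ⊤) Γ(X, ⊤) Γ(P, ⊤) := .of_algebraMap_eq' (congrArg CommRingCat.Hom.hom hpo.w)
  haveI : Algebra.IsPushout Γ(T, ⊤) Γ(T', ⊤) Γ(X, ⊤) Γ(P, ⊤) := CommRingCat.isPushout_iff_isPushout.1 hpo
  haveI : Module.Projective Γ(T, ⊤) Γ(X, ⊤) := h
  exact Module.Projective.of_equiv (Algebra.IsPushout.equiv Γ(T, ⊤) Γ(T', ⊤) Γ(X, ⊤) Γ(P, ⊤)).toLinearEquiv

theorem projective_trans {R A B : CommRingCat.{u}} (f : R ⟶ A) (g : A ⟶ B) (h : R ⟶ B) (hh : f ≫ g = h)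
    (hf : letI := f.hom.toAlgebra; Module.Projective R A) (hg : letI := g.hom.toAlgebra; Module.Projective A B) :
    letI := h.hom.toAlgebra
    Module.Projective R B := by
  letI : Algebra R A := f.hom.toAlgebra
  letI : Algebra A B := g.hom.toAlgebra
  letI : Algebra R B := h.hom.toAlgebra
  haveI : IsScalarTower R A B := .of_algebraMap_eq' (congrArg CommRingCat.Hom.hom hh.symm)
  haveI : Module.Projective R A := hf
  haveI : Module.Projective A B := hg
  classical
  obtain ⟨σ, hσ⟩ := Module.Projective.out (R := A) (P := B)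
  haveI : Module.Projective R (B →₀ A) :=
    Module.Projective.of_equiv (finsuppLEquivDirectSum R A B).symm
  refine Module.Projective.of_split (R := R) (σ.restrictScalars R) ((Finsupp.linearCombination A id).restrictScalars R) ?_
  exact LinearMap.ext hσ

theorem projective_ofHom (R B : Type u) [CommRing R] [CommRing B] [Algebra R B] [h : Module.Projective R B] :
    letI := (CommRingCat.ofHom (algebraMap R B)).hom.toAlgebra
    Module.Projective (CommRingCat.of R) (CommRingCat.of B) := by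
  have e : (algebraMap R B).toAlgebra = (inferInstance : Algebra R B) := Algebra.algebra_ext _ _ fun _ => rfl
  show @Module.Projective R _ B _ (algebraMap R B).toAlgebra.toModule
  rw [e]
  exact h

/-- Essential freeness from finitely many flat affine charts. -/
theorem isEssentiallyFree_of_charts {X S : Scheme.{u}} (f : X ⟶ S)
    (h : ∀ s : S, ∃ (U : S.Opens), s ∈ U ∧ IsAffineOpen U ∧ ∃ (ι : Type u) (_ : Finite ι) (A : ι → Scheme.{u})
      (_ : ∀ i, IsAffine (A i)) (g : ∀ i, A i ⟶ U.toScheme), (∀ i, Flat (g i)) ∧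
      (∀ p : U.toScheme, ∃ (i : ι) (a : A i), g i a = p) ∧
      ∀ i, ∃ (P : Scheme.{u}) (_ : IsAffine P) (m : P ⟶ X) (q : P ⟶ A i), IsPullback m q f (g i ≫ U.ι) ∧
        (letI := q.appTop.hom.toAlgebra; Module.Projective Γ(A i, ⊤) Γ(P, ⊤))) :
    SGA3x.IsEssentiallyFree f := by
  intro s
  obtain ⟨U, hsU, hU, ι, _, A, _, g, hgf, hgs, hP⟩ := h s
  haveI := hgf
  choose P hPa m q sq hproj using hP
  let G : (∐ A) ⟶ U.toScheme := Sigma.desc g
  haveI : Flat G := by
    rw [IsZariskiLocalAtSource.iff_of_openCover (P := @Flat) (sigmaOpenCover A)]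
    intro i
    show Flat (Sigma.ι A i ≫ G)
    rw [Sigma.ι_desc]; exact hgf i
  haveI : Surjective G := ⟨fun p => by
    obtain ⟨i, a, ha⟩ := hgs p
    exact ⟨Sigma.ι A i a, by rw [← Scheme.Hom.comp_apply, Sigma.ι_desc, ha]⟩⟩
  refine ⟨U, hsU, hU, ∐ A, inferInstance, G, inferInstance, inferInstance, fun x => ?_⟩
  let Q := pullback f (G ≫ U.ι)
  obtain ⟨i, y, hy⟩ : ∃ i y, Sigma.ι A i y = pullback.snd f (G ≫ U.ι) x := (sigmaOpenCover A).exists_eq _
  let O := (Sigma.ι A i).opensRange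
  haveI : IsAffine O.toScheme := isAffineOpen_opensRange _
  let W := pullback.snd f (G ≫ U.ι) ⁻¹ᵁ O
  refine ⟨W, ⟨y, hy⟩, ?_⟩
  let e : A i ≅ O.toScheme := (Sigma.ι A i).isoOpensRange
  have he : e.hom ≫ O.ι = Sigma.ι A i := Scheme.Hom.isoOpensRange_hom_ι _
  have sqW : IsPullback (W.ι ≫ pullback.fst f (G ≫ U.ι)) (pullback.snd f (G ≫ U.ι) ∣_ O) f (O.ι ≫ G ≫ U.ι) :=
    (isPullback_morphismRestrict _ O).flip.paste_horiz (IsPullback.of_hasPullback f (G ≫ U.ι))
  have sqO : IsPullback (m i) (q i ≫ e.hom) f (O.ι ≫ G ≫ U.ι) :=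
    (sq i).of_iso (Iso.refl _) (Iso.refl _) e (Iso.refl _) (by simp) (by simp) (by simp)
      (by simp only [Iso.refl_hom, Category.comp_id]; rw [reassoc_of% he, Sigma.ι_desc_assoc])
  let d := sqW.isoIsPullback _ _ sqO
  have hd : d.hom ≫ q i ≫ e.hom = pullback.snd f (G ≫ U.ι) ∣_ O := IsPullback.isoIsPullback_hom_snd _ _ _ _
  haveI := hPa i
  haveI : IsAffine W.toScheme := IsAffine.of_isIso d.hom
  refine ⟨inferInstanceAs (IsAffine W.toScheme), ?_⟩
  haveI : IsClosedImmersion O.ι := by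
    refine IsClosedImmersion.of_isPreimmersion _ ?_
    rw [Scheme.Opens.range_ι]
    have hc : (O : Set ↥(∐ A)) = (⋃ k ∈ ({i}ᶜ : Set ι), ((Sigma.ι A k).opensRange : Set ↥(∐ A)))ᶜ := by
      ext z
      obtain ⟨k, w, rfl⟩ : ∃ k w, Sigma.ι A k w = z := (sigmaOpenCover A).exists_eq _
      simp only [Set.mem_compl_iff, Set.mem_iUnion₂, not_exists]
      constructor
      · rintro ⟨w', hw'⟩ l hl ⟨w'', hw''⟩
        exact hl ((disjoint_opensRange_sigmaι A l i hl).le_bot ⟨⟨w'', hw''⟩, ⟨w', hw'⟩⟩).elim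
      · intro hz
        by_cases hk : k = i
        · subst hk; exact ⟨w, rfl⟩
        · exact (hz k hk ⟨w, rfl⟩).elim
    rw [hc, isClosed_compl_iff]
    exact isOpen_biUnion fun k _ => (Sigma.ι A k).opensRange.2
  have h1 := projective_appTop_of_finite_flat O.ι
  have h2 : letI := (pullback.snd f (G ≫ U.ι) ∣_ O).appTop.hom.toAlgebra
      Module.Projective Γ(O.toScheme, ⊤) Γ(W.toScheme, ⊤) := by
    have : IsPullback d.hom (pullback.snd f (G ≫ U.ι) ∣_ O) (q i) e.inv :=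
      IsPullback.of_horiz_isIso ⟨by rw [← hd]; simp⟩
    exact projective_appTop_baseChange this (hproj i)
  exact projective_trans _ _ _ (by rw [← Scheme.Hom.comp_appTop, morphismRestrict_ι]) h1 h2

theorem projective_diag (M : Type) [AddCommGroup M] :
    letI := (Red.diag (ULift.{u} ℤ) M).hom.appTop.hom.toAlgebra
    Module.Projective Γ(Spec (CommRingCat.of (ULift.{u} ℤ)), ⊤)
      Γ((Red.diag (ULift.{u} ℤ) M).left, ⊤) := by
  let R₀ := CommRingCat.of (ULift.{u} ℤ)
  let B₀ := CommRingCat.of (MonoidAlgebra (ULift.{u} ℤ) (Multiplicative M))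
  let a : R₀ ⟶ B₀ := CommRingCat.ofHom (algebraMap (ULift.{u} ℤ) (MonoidAlgebra (ULift.{u} ℤ) (Multiplicative M)))
  haveI : Module.Free (ULift.{u} ℤ) (MonoidAlgebra (ULift.{u} ℤ) (Multiplicative M)) :=
    Module.Free.of_equiv (MonoidAlgebra.coeffLinearEquiv (ULift.{u} ℤ)).symm
  have ha := projective_ofHom (ULift.{u} ℤ) (MonoidAlgebra (ULift.{u} ℤ) (Multiplicative M))
  show letI := (Spec.map a).appTop.hom.toAlgebra; Module.Projective Γ(Spec R₀, ⊤) Γ(Spec B₀, ⊤)
  refine projective_trans (Scheme.ΓSpecIso R₀).hom (a ≫ (Scheme.ΓSpecIso B₀).inv) _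
    (by rw [← Category.assoc, ← Scheme.ΓSpecIso_naturality]; simp) ?_ ?_
  · letI := (Scheme.ΓSpecIso R₀).hom.hom.toAlgebra
    exact Module.Projective.of_equiv
      (LinearEquiv.ofBijective (Algebra.linearMap Γ(Spec R₀, ⊤) R₀)
        (ConcreteCategory.bijective_of_isIso (Scheme.ΓSpecIso R₀).hom))
  · refine projective_trans a (Scheme.ΓSpecIso B₀).inv _ rfl ha ?_
    letI := (Scheme.ΓSpecIso B₀).inv.hom.toAlgebra
    exact Module.Projective.of_equiv
      (LinearEquiv.ofBijective (Algebra.linearMap B₀ Γ(Spec B₀, ⊤))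
        (ConcreteCategory.bijective_of_isIso (Scheme.ΓSpecIso B₀).inv))

/-- Locally diagonalisable for fpqc, with arbitrary character groups. -/
def IsMultTypeLoc {S : Scheme.{u}} (H : Over S) [GrpObj H] : Prop :=
  ∃ (S' : Scheme.{u}) (f : S' ⟶ S), Flat f ∧ Surjective f ∧
    (∀ V : S.Opens, IsAffineOpen V → ∃ W : S'.Opens, IsCompact (W : Set S') ∧ f.base '' (W : Set S') = (V : Set S)) ∧
    ∀ s' : S', ∃ U : S'.Opens, s' ∈ U ∧ ∃ (M : Type) (_ : AddCommGroup M),
      Nonempty (Grp.mk (Red.bc (U.ι ≫ f) H) ≅ Grp.mk (Red.DS (U : Scheme.{u}) M))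

theorem IsMultTypeLoc.of_isMultTypeFT {S : Scheme.{u}} {H : Over S} [GrpObj H] (hH : SGA3x.IsMultTypeFT H) :
    IsMultTypeLoc H := by
  obtain ⟨S', f, h₁, h₂, h₃, h⟩ := hH
  exact ⟨S', f, h₁, h₂, h₃, fun s' => by
    obtain ⟨U, hU, M, i, -, e⟩ := h s'
    exact ⟨U, hU, M, i, e⟩⟩

/-- The affine charts of a group of multiplicative type over an affine open of the base. -/
theorem exists_charts_of_isMultTypeLoc {S : Scheme.{u}} (H : Over S) [GrpObj H] (hH : IsMultTypeLoc H)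
    (U : S.Opens) (hU : IsAffineOpen U) :
    ∃ (ι : Type u) (_ : Finite ι) (A : ι → Scheme.{u})
      (_ : ∀ i, IsAffine (A i)) (g : ∀ i, A i ⟶ U.toScheme), (∀ i, Flat (g i)) ∧
      (∀ p : U.toScheme, ∃ (i : ι) (a : A i), g i a = p) ∧
      ∀ i, ∃ (P : Scheme.{u}) (_ : IsAffine P) (m : P ⟶ H.left) (q : P ⟶ A i), IsPullback m q H.hom (g i ≫ U.ι) ∧
        (letI := q.appTop.hom.toAlgebra; Module.Projective Γ(A i, ⊤) Γ(P, ⊤)) := by
  obtain ⟨S', f, hflat, hsurj, hqc, hloc⟩ := hH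
  obtain ⟨W, hWc, hW⟩ := hqc U hU
  have hW' : W ≤ f ⁻¹ᵁ U := fun w hw => hW.subset ⟨w, hw, rfl⟩
  choose O hO M instM e using hloc
  have hA : ∀ w : W, ∃ A : S'.Opens, IsAffineOpen A ∧ w.1 ∈ A ∧ A ≤ O w.1 ⊓ W := fun w => by
    obtain ⟨A, hA, hwA, hle⟩ := exists_isAffineOpen_mem_and_subset (x := w.1) (U := O w.1 ⊓ W) ⟨hO w.1, w.2⟩
    exact ⟨A, hA, hwA, hle⟩
  choose A hAa hwA hAle using hA
  obtain ⟨t, ht⟩ := hWc.elim_finite_subcover (fun w : W => (A w : Set S')) (fun w => (A w).2)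
    fun w hw => Set.mem_iUnion.2 ⟨⟨w, hw⟩, hwA _⟩
  refine ⟨↥t, inferInstance, fun w => (A w.1).toScheme, fun w => hAa w.1,
    fun w => f.resLE U (A w.1) (((hAle w.1).trans inf_le_right).trans hW'), fun w => inferInstance, fun p => ?_,
    fun w => ?_⟩
  · obtain ⟨x, hx, hxp⟩ := hW.superset p.2
    obtain ⟨w, hwt, hxA⟩ := Set.mem_iUnion₂.1 (ht hx)
    refine ⟨⟨w, hwt⟩, ⟨x, hxA⟩, U.ι.isOpenEmbedding.injective ?_⟩
    rw [← Scheme.Hom.comp_apply, Scheme.Hom.resLE_comp_ι]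
    exact hxp
  · let i := w.1.1
    let a : (A w.1).toScheme ⟶ (O i).toScheme := S'.homOfLE ((hAle w.1).trans inf_le_left)
    obtain ⟨e'⟩ := e i
    let eH : Red.bc ((O i).ι ≫ f) H ≅ Red.DS (O i).toScheme (M i) := (Grp.forget _).mapIso e'
    haveI : IsIso eH.inv.left := (Over.forget _).map_isIso eH.inv
    let D := Red.diag (ULift.{u} ℤ) (M i)
    haveI : IsAffine D.left := inferInstanceAs (IsAffine (Spec _))
    let t₀ := Limits.IsTerminal.from specULiftZIsTerminal (O i).toScheme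
    haveI : IsAffine (A w.1).toScheme := hAa w.1
    let P := pullback D.hom (a ≫ t₀)
    let μ : P ⟶ pullback D.hom t₀ := pullback.lift (pullback.fst _ _) (pullback.snd _ _ ≫ a) (by rw [Category.assoc]; exact pullback.condition)
    refine ⟨P, inferInstance, μ ≫ eH.inv.left ≫
      pullback.fst H.hom ((O i).ι ≫ f), pullback.snd D.hom (a ≫ t₀), ?_, ?_⟩
    · have hfac : f.resLE U (A w.1) (((hAle w.1).trans inf_le_right).trans hW') ≫ U.ι = a ≫ (O i).ι ≫ f := by
        simp [a]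
      rw [hfac]
      have s₁ : IsPullback (eH.inv.left ≫ pullback.fst H.hom ((O i).ι ≫ f)) (Red.DS (O i).toScheme (M i)).hom H.hom
          ((O i).ι ≫ f) :=
        (IsPullback.of_hasPullback H.hom ((O i).ι ≫ f)).of_iso (asIso eH.inv.left).symm (Iso.refl _) (Iso.refl _)
          (Iso.refl _) (by simp) (by
            simp only [Iso.symm_hom, asIso_inv, Iso.refl_hom, Category.comp_id, IsIso.eq_inv_comp]
            exact Over.w eH.inv) (by simp) (by simp)
      have s₂ : IsPullback μ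
          (pullback.snd D.hom (a ≫ t₀)) (Red.DS (O i).toScheme (M i)).hom a :=
        IsPullback.of_right (by rw [pullback.lift_fst]; exact IsPullback.of_hasPullback D.hom (a ≫ t₀))
          (pullback.lift_snd _ _ _) (IsPullback.of_hasPullback D.hom t₀)
      exact s₂.paste_horiz s₁
    · exact projective_appTop_baseChange (IsPullback.of_hasPullback D.hom (a ≫ t₀)) (projective_diag (M i))


theorem isEssentiallyFree_of_isMultTypeLoc {S : Scheme.{u}} (H : Over S) [GrpObj H] (hH : IsMultTypeLoc H) :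
    SGA3x.IsEssentiallyFree H.hom := by
  refine isEssentiallyFree_of_charts H.hom fun s => ?_
  obtain ⟨U, hU, hsU, -⟩ := exists_isAffineOpen_mem_and_subset (x := s) (U := ⊤) trivial
  exact ⟨U, hsU, hU, exists_charts_of_isMultTypeLoc H hH U hU⟩

theorem quasiCompact_of_isMultTypeLoc {S : Scheme.{u}} (H : Over S) [GrpObj H] (hH : IsMultTypeLoc H) :
    QuasiCompact H.hom := by
  rw [quasiCompact_iff_forall_isAffineOpen]
  intro U hU
  obtain ⟨ι, _, A, _, g, -, hgs, hP⟩ := exists_charts_of_isMultTypeLoc H hH U hU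
  choose P hPa m q sq hproj using hP
  haveI := hPa
  have he : (H.hom ⁻¹' (U : Set S)) = ⋃ i, Set.range (m i) := by
    ext x
    simp only [Set.mem_preimage, Set.mem_iUnion, Set.mem_range]
    constructor
    · intro hx
      obtain ⟨i, a, ha⟩ := hgs ⟨H.hom x, hx⟩
      obtain ⟨z, hz, -⟩ := Scheme.exists_preimage_of_isPullback (sq i) x a (by
        rw [Scheme.Hom.comp_apply, ha]; rfl)
      exact ⟨i, z, hz⟩
    · rintro ⟨i, z, rfl⟩
      rw [SetLike.mem_coe, ← Scheme.Hom.comp_apply, (sq i).w, Scheme.Hom.comp_apply, Scheme.Hom.comp_apply]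
      exact (g i (q i z)).2
  show IsCompact (H.hom ⁻¹' (U : Set S))
  rw [he]
  exact isCompact_iUnion fun i => isCompact_range (m i).continuous


theorem isEssentiallyFree_of_isMultTypeFT {S : Scheme.{u}} (H : Over S) [GrpObj H] (hH : SGA3x.IsMultTypeFT H) :
    SGA3x.IsEssentiallyFree H.hom :=
  isEssentiallyFree_of_isMultTypeLoc H (.of_isMultTypeFT hH)

theorem quasiCompact_of_isMultTypeFT {S : Scheme.{u}} (H : Over S) [GrpObj H] (hH : SGA3x.IsMultTypeFT H) :
    QuasiCompact H.hom :=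
  quasiCompact_of_isMultTypeLoc H (.of_isMultTypeFT hH)

theorem exists_charts_of_isMultTypeFT {S : Scheme.{u}} (H : Over S) [GrpObj H] (hH : SGA3x.IsMultTypeFT H)
    (U : S.Opens) (hU : IsAffineOpen U) :
    ∃ (ι : Type u) (_ : Finite ι) (A : ι → Scheme.{u})
      (_ : ∀ i, IsAffine (A i)) (g : ∀ i, A i ⟶ U.toScheme), (∀ i, Flat (g i)) ∧
      (∀ p : U.toScheme, ∃ (i : ι) (a : A i), g i a = p) ∧
      ∀ i, ∃ (P : Scheme.{u}) (_ : IsAffine P) (m : P ⟶ H.left) (q : P ⟶ A i), IsPullback m q H.hom (g i ≫ U.ι) ∧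
        (letI := q.appTop.hom.toAlgebra; Module.Projective Γ(A i, ⊤) Γ(P, ⊤)) :=
  exists_charts_of_isMultTypeLoc H (.of_isMultTypeFT hH) U hU

end Groth.Agent.WeilClosedLib
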