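import Groth.Agent.WeilClosedLib.Rep
/-!
The closed subscheme representing base changes which factor through a closed subscheme.
-/

set_option autoImplicit false
set_option backward.isDefEq.respectTransparency false
set_option backward.isDefEq.respectTransparency.types false
set_option linter.style.haveILetI false

universe u

open CategoryTheory CategoryTheory.Limits AlgebraicGeometry TopologicalSpace TensorProduct

noncomputable section

namespace Groth.Agent.WeilClosedLib

variable {S Z Y : Scheme.{u}} {f : Z ⟶ S} {j : Y ⟶ Z}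

theorem flat_pi {R : Type u} [CommRing R] {ι : Type u} [Finite ι] (M : ι → Type u) [∀ i, AddCommGroup (M i)]
    [∀ i, Module R (M i)] [∀ i, Module.Flat R (M i)] : Module.Flat R (Π i, M i) := by
  classical
  have := Fintype.ofFinite ι
  exact Module.Flat.of_linearEquiv (DirectSum.linearEquivFunOnFintype R ι M).symm

/-- Local representability gives representability on every affine open. -/
theorem exists_repBy_affine [Mono j] {P : Prop}
    (hgood : ∀ s : S, ∃ (U : S.Opens) (hU : IsAffineOpen U) (c : Ideal Γ(S, U)),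
      s ∈ U ∧ RepBy f j hU.fromSpec c ∧ (P → c.FG))
    (V : S.Opens) (hV : IsAffineOpen V) : ∃ c : Ideal Γ(S, V), RepBy f j hV.fromSpec c ∧ (P → c.FG) := by
  classical
  choose U hU cU hsU hrep hfg using hgood
  have hD : ∀ v : V, ∃ D : S.Opens, IsAffineOpen D ∧ v.1 ∈ D ∧ D ≤ V ⊓ U v.1 := fun v => by
    obtain ⟨D, hDa, hvD, hle⟩ := exists_isAffineOpen_mem_and_subset (x := v.1) (U := V ⊓ U v.1) ⟨v.2, hsU v.1⟩
    exact ⟨D, hDa, hvD, hle⟩
  choose D hDa hvD hle using hD
  obtain ⟨t, ht⟩ := hV.isCompact.elim_finite_subcover (fun v : V => (D v : Set S)) (fun v => (D v).2)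
    fun v hv => Set.mem_iUnion.2 ⟨⟨v, hv⟩, hvD _⟩
  let R : ↥t → Type u := fun i => Γ(S, D i.1)
  let r : ∀ i : ↥t, Γ(S, V) ⟶ Γ(S, D i.1) := fun i => S.presheaf.map (homOfLE ((hle i.1).trans inf_le_left)).op
  have hr : ∀ i, Spec.map (r i) ≫ hV.fromSpec = (hDa i.1).fromSpec := fun i => hV.map_fromSpec (hDa i.1) _
  have hci : ∀ i : ↥t, ∃ c : Ideal Γ(S, D i.1), RepBy f j (hDa i.1).fromSpec c ∧ (P → c.FG) := fun i => by
    refine ⟨(cU i.1.1).map (S.presheaf.map (homOfLE ((hle i.1).trans inf_le_right)).op).hom, ?_,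
      fun hP => (hfg _ hP).map _⟩
    rw [← (hU i.1.1).map_fromSpec (hDa i.1) (homOfLE ((hle i.1).trans inf_le_right)).op]
    exact (hrep _).baseChange _
  choose c hc hcfg using hci
  let ψ : Γ(S, V) ⟶ CommRingCat.of (Π i, R i) := CommRingCat.ofHom (Pi.ringHom fun i => (r i).hom)
  have hψev : ∀ i, Spec.map (CommRingCat.ofHom (Pi.evalRingHom R i)) ≫ Spec.map ψ ≫ hV.fromSpec =
      (hDa i.1).fromSpec := fun i => by
    rw [← Spec.map_comp_assoc]; exact hr i
  have hpi : RepBy f j (Spec.map ψ ≫ hV.fromSpec) (Ideal.pi c) :=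
    exists_repBy_pi R _ c fun i => by rw [hψev i]; exact hc i
  have hflat : ψ.hom.Flat := by
    have hri : ∀ i, (r i).hom.Flat := fun i => by
      haveI : IsOpenImmersion (Spec.map (r i) ≫ hV.fromSpec) := by rw [hr i]; infer_instance
      haveI : IsOpenImmersion (Spec.map (r i)) := IsOpenImmersion.of_comp _ hV.fromSpec
      exact (HasRingHomProperty.Spec_iff (P := @Flat)).1 inferInstance
    letI : ∀ i, Algebra Γ(S, V) (R i) := fun i => (r i).hom.toAlgebra
    haveI : ∀ i, Module.Flat Γ(S, V) (R i) := hri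
    exact flat_pi R
  have hs : Surjective (Spec.map ψ) := ⟨fun p => by
    have hp : hV.fromSpec p ∈ V := hV.range_fromSpec.subset ⟨p, rfl⟩
    obtain ⟨v, hvt, hpv⟩ := Set.mem_iUnion₂.1 (ht hp)
    obtain ⟨q, hq⟩ := (hDa v).range_fromSpec.superset hpv
    refine ⟨Spec.map (CommRingCat.ofHom (Pi.evalRingHom R ⟨v, hvt⟩)) q, hV.fromSpec.isOpenEmbedding.injective ?_⟩
    rw [← Scheme.Hom.comp_apply, ← Scheme.Hom.comp_apply, hψev ⟨v, hvt⟩]
    exact hq⟩
  obtain ⟨hrepV, hmap⟩ := hpi.descend ψ hflat hs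
  refine ⟨_, hrepV, fun hP => ?_⟩
  -- descend finite generation
  algebraize [ψ.hom]
  haveI : Module.Flat Γ(S, V) (Π i, R i) := hflat
  haveI : Module.FaithfullyFlat Γ(S, V) (Π i, R i) :=
    RingHom.faithfullyFlat_algebraMap_iff.1 (RingHom.FaithfullyFlat.iff_flat_and_comap_surjective.2 ⟨hflat, hs.surj⟩)
  let C := (Ideal.pi c).comap ψ.hom
  have hfgpi : (Ideal.pi c).FG := by
    have hsup : Ideal.pi c = ⨆ i, Ideal.span (Pi.single i '' (c i : Set (R i))) := by
      refine le_antisymm (fun x hx => ?_) (iSup_le fun i => Ideal.span_le.2 ?_)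
      · rw [← Finset.univ_sum_single x]
        exact Submodule.sum_mem _ fun i _ => Ideal.mem_iSup_of_mem i (Ideal.subset_span ⟨_, hx i, rfl⟩)
      · rintro _ ⟨y, hy, rfl⟩ k
        rcases eq_or_ne k i with rfl | hk
        · simpa using hy
        · simp [Pi.single_eq_of_ne hk]
    rw [hsup]
    refine Submodule.fg_iSup _ fun i => ?_
    obtain ⟨T, hT⟩ := hcfg i hP
    refine ⟨T.image (Pi.single i), le_antisymm ?_ (Ideal.span_le.2 ?_)⟩
    · rw [Finset.coe_image]
      exact Ideal.span_mono (Set.image_mono fun y hy => hT ▸ Ideal.subset_span hy)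
    · rintro _ ⟨y, hy, rfl⟩
      rw [← hT] at hy
      rw [Finset.coe_image]
      induction hy using Submodule.span_induction with
      | mem y hy => exact Ideal.subset_span ⟨y, hy, rfl⟩
      | zero => simp
      | add a b _ _ ha hb => rw [Pi.single_add]; exact Ideal.add_mem _ ha hb
      | smul a y _ hy =>
        rw [smul_eq_mul, Pi.single_mul]
        exact Ideal.mul_mem_left _ _ hy
  rw [← hmap] at hfgpi
  exact fg_of_fg_map C hfgpi

/-- The ideal sheaf of the representing closed subscheme. -/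
theorem exists_closed_rep [Mono j] {P : Prop}
    (hgood : ∀ s : S, ∃ (U : S.Opens) (hU : IsAffineOpen U) (c : Ideal Γ(S, U)),
      s ∈ U ∧ RepBy f j hU.fromSpec c ∧ (P → c.FG)) :
    ∃ (T : Scheme.{u}) (t : T ⟶ S), IsClosedImmersion t ∧
      (∀ (S' : Scheme.{u}) (g : S' ⟶ S), (∃ g' : S' ⟶ T, g' ≫ t = g) ↔ FactorsOn f j g) ∧
      (P → LocallyOfFinitePresentation t) := by
  choose c hc hfg using fun V : S.affineOpens => exists_repBy_affine hgood V.1 V.2
  let I : S.IdealSheafData :=
    { ideal := c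
      map_ideal_basicOpen := fun V r => by
        have h1 := (hc V).baseChange (S.presheaf.map (homOfLE <| S.basicOpen_le r).op)
        rw [V.2.map_fromSpec (V.2.basicOpen r)] at h1
        exact h1.unique (hc (S.affineBasicOpen r)) }
  refine ⟨I.subscheme, I.subschemeι, inferInstance, fun S' g => ?_, fun hP => ?_⟩
  · have key : ∀ (V : S.affineOpens) (B : CommRingCat.{u}) (φ : Γ(S, V) ⟶ B),
        (∃ g', g' ≫ I.subschemeι = Spec.map φ ≫ V.2.fromSpec) ↔ FactorsOn f j (Spec.map φ ≫ V.2.fromSpec) := by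
      intro V B φ
      rw [hc V B φ]
      have hcov : I.subschemeCover.f V ≫ I.subschemeι =
          Spec.map (CommRingCat.ofHom (Ideal.Quotient.mk (c V))) ≫ V.2.fromSpec := by
        rw [I.subschemeCover_map_subschemeι]
        simp [Scheme.IdealSheafData.glueDataObjι, IsAffineOpen.isoSpec_inv_ι]
        rfl
      constructor
      · rintro ⟨g', hg'⟩
        let g'' := IsOpenImmersion.lift (I.subschemeCover.f V) g' (by
          rintro _ ⟨y, rfl⟩
          refine (Scheme.IdealSheafData.opensRange_subschemeCover_map I V).ge ?_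
          show I.subschemeι (g' y) ∈ V.1
          rw [← Scheme.Hom.comp_apply, hg', Scheme.Hom.comp_apply]
          exact V.2.range_fromSpec.subset ⟨_, rfl⟩)
        obtain ⟨ψ, hψ⟩ := Spec.map_surjective g''
        have h1 : Spec.map φ = Spec.map (CommRingCat.ofHom (Ideal.Quotient.mk (c V)) ≫ ψ) := by
          rw [← cancel_mono V.2.fromSpec, Spec.map_comp, Category.assoc, ← hcov, hψ,
            IsOpenImmersion.lift_fac_assoc, hg']
        intro a ha
        rw [RingHom.mem_ker, Spec.map_injective h1]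
        show ψ.hom (Ideal.Quotient.mk (c V) a) = 0
        rw [Ideal.Quotient.eq_zero_iff_mem.2 ha, map_zero]
      · intro h
        refine ⟨Spec.map (CommRingCat.ofHom (Ideal.Quotient.lift (c V) φ.hom h)) ≫ I.subschemeCover.f V, ?_⟩
        rw [Category.assoc, hcov, ← Spec.map_comp_assoc]
        rfl
    have hloc : ∀ s' : S', ∃ (V : S.affineOpens) (B : CommRingCat.{u}) (φ : Γ(S, V) ⟶ B)
        (k : Spec B ⟶ S') (_ : IsOpenImmersion k), s' ∈ Set.range k ∧ k ≫ g = Spec.map φ ≫ V.2.fromSpec := by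
      intro s'
      obtain ⟨V, hV, hsV, -⟩ := exists_isAffineOpen_mem_and_subset (x := g s') (U := ⊤) trivial
      obtain ⟨W, hW, hsW, hWV⟩ := exists_isAffineOpen_mem_and_subset (x := s') (U := g ⁻¹ᵁ V) hsV
      exact ⟨⟨V, hV⟩, Γ(S', W), g.appLE V W hWV, hW.fromSpec, inferInstance, hW.range_fromSpec.superset hsW,
        (IsAffineOpen.SpecMap_appLE_fromSpec g hV hW hWV).symm⟩
    constructor
    · rintro ⟨g', rfl⟩
      refine factorsOn_of_local_target fun s' => ?_
      obtain ⟨V, B, φ, k, _, hk, hkg⟩ := hloc s'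
      refine ⟨k.opensRange, hk, ?_⟩
      rw [show k.opensRange.ι = k.isoOpensRange.inv ≫ k by simp, Category.assoc, hkg]
      exact ((key V B φ).1 ⟨k ≫ g', by rw [Category.assoc, hkg]⟩).comp _
    · intro h
      choose V B φ k hk hmem hkg using hloc
      choose l hl using fun s' => (key (V s') (B s') (φ s')).2 (hkg s' ▸ h.comp (k s'))
      let 𝒰 : S'.OpenCover :=
        Scheme.Cover.mkOfCovers S' (fun s' => Spec (B s')) (fun s' => k s')
          (fun x => ⟨x, hmem x⟩) fun s' => hk s'
      refine ⟨𝒰.glueMorphisms l fun a b => ?_, 𝒰.hom_ext _ _ fun a => ?_⟩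
      · rw [← cancel_mono I.subschemeι, Category.assoc, Category.assoc, hl, hl, ← hkg, ← hkg,
          ← Category.assoc, ← Category.assoc]
        exact congrArg (· ≫ g) pullback.condition
      · rw [Scheme.Cover.ι_glueMorphisms_assoc, hl, ← hkg]
        rfl
  · rw [IsZariskiLocalAtSource.iff_of_openCover (P := @LocallyOfFinitePresentation) I.subschemeCover.openCover]
    intro V
    show LocallyOfFinitePresentation (I.subschemeCover.f V ≫ I.subschemeι)
    rw [I.subschemeCover_map_subschemeι]
    have h1 : LocallyOfFinitePresentation (Spec.map (CommRingCat.ofHom (Ideal.Quotient.mk (c V)))) := by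
      rw [HasRingHomProperty.Spec_iff (P := @LocallyOfFinitePresentation)]
      exact RingHom.FinitePresentation.of_surjective _ Ideal.Quotient.mk_surjective (by simpa using hfg V hP)
    simp only [Scheme.IdealSheafData.glueDataObjι, Category.assoc, IsAffineOpen.isoSpec_inv_ι]
    infer_instance

end Groth.Agent.WeilClosedLib
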