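import Groth.Agent.WeilClosedLib.EssFree
import Groth.Agent.FppfSrc.Retract
import Groth.Agent.ArtFree.Basic
/-!
Essentially free morphisms are flat; flat morphisms over artinian bases are essentially free.
-/

set_option autoImplicit false
set_option backward.isDefEq.respectTransparency false
set_option backward.isDefEq.respectTransparency.types false
set_option linter.style.haveILetI false

universe u

open CategoryTheory CategoryTheory.Limits AlgebraicGeometry TopologicalSpace TensorProduct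

noncomputable section

namespace Groth.Agent.WeilClosedLib

theorem flat_of_isEssentiallyFree {X S : Scheme.{u}} (f : X ⟶ S) (hf : SGA3x.IsEssentiallyFree f) : Flat f := by
  refine Flat.of_stalkMap _ fun x => ?_
  obtain ⟨U, hsU, hU, S', _, g, hgf, hgs, hcov⟩ := hf (f x)
  haveI := hgf; haveI := hgs
  haveI : Flat (pullback.snd f (g ≫ U.ι)) := by
    refine Flat.of_stalkMap _ fun y => ?_
    obtain ⟨V, hyV, hV, hproj⟩ := hcov y
    haveI : IsAffine V.toScheme := hV
    have hfl : Flat (V.ι ≫ pullback.snd f (g ≫ U.ι)) := by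
      rw [HasRingHomProperty.iff_of_isAffine (P := @Flat)]
      letI := (V.ι ≫ pullback.snd f (g ≫ U.ι)).appTop.hom.toAlgebra
      haveI : Module.Projective Γ(S', ⊤) Γ(↑V, ⊤) := hproj
      exact (inferInstance : Module.Flat Γ(S', ⊤) Γ(↑V, ⊤))
    exact (FlatDescStalk.flat_stalkMap_comp_iff V.ι (pullback.snd f (g ≫ U.ι)) ⟨y, hyV⟩ (Flat.stalkMap _ _)).1
      (Flat.stalkMap (V.ι ≫ pullback.snd f (g ≫ U.ι)) _)
  let O := f ⁻¹ᵁ U
  let f₀ := f ∣_ U
  have sq : IsPullback (pullback.fst f₀ g) (pullback.snd f₀ g) f₀ g := IsPullback.of_hasPullback _ _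
  have sq' : IsPullback (pullback.fst f₀ g ≫ O.ι) (pullback.snd f₀ g) f (g ≫ U.ι) :=
    sq.paste_horiz (isPullback_morphismRestrict f U).flip
  haveI : Flat (pullback.snd f₀ g) := by
    rw [← sq'.isoPullback_hom_snd]; infer_instance
  haveI : Flat (pullback.fst f₀ g ≫ f₀) := by rw [pullback.condition]; infer_instance
  haveI : Flat f₀ := FppfSrc.flat_of_factor_scheme (pullback.fst f₀ g) (pullback.fst f₀ g) (𝟙 _) f₀ (Category.id_comp _)
  have h1 := Flat.stalkMap (f₀ ≫ U.ι) (⟨x, hsU⟩ : O.toScheme)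
  rw [morphismRestrict_ι] at h1
  exact (FlatDescStalk.flat_stalkMap_comp_iff O.ι f _ (Flat.stalkMap _ _)).1 h1

theorem isEssentiallyFree_of_flat_artinian {A : Type u} [CommRing A] [IsArtinianRing A] {X : Scheme.{u}}
    (f : X ⟶ Spec (CommRingCat.of A)) [Flat f] : SGA3x.IsEssentiallyFree f := by
  intro s
  haveI : DiscreteTopology ↥(Spec (CommRingCat.of A)) := inferInstanceAs (DiscreteTopology (PrimeSpectrum A))
  let U : (Spec (CommRingCat.of A)).Opens := ⟨{s}, isOpen_discrete _⟩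
  haveI : IsClosedImmersion U.ι := IsClosedImmersion.of_isPreimmersion _ (by
    rw [Scheme.Opens.range_ι]; exact isClosed_discrete _)
  haveI : IsAffine U.toScheme := isAffine_of_isAffineHom U.ι
  haveI : Subsingleton ↥U.toScheme :=
    ⟨fun a b => Subtype.ext ((Set.mem_singleton_iff.1 a.2).trans (Set.mem_singleton_iff.1 b.2).symm)⟩
  refine ⟨U, rfl, inferInstanceAs (IsAffine U.toScheme), _, inferInstance, 𝟙 _, inferInstance, inferInstance,
    fun x => ?_⟩
  obtain ⟨V, hV, hxV, -⟩ := exists_isAffineOpen_mem_and_subset (x := x) (U := ⊤) trivial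
  haveI : IsAffine V.toScheme := hV
  refine ⟨V, hxV, hV, ?_⟩
  letI := (V.ι ≫ pullback.snd f (𝟙 _ ≫ U.ι)).appTop.hom.toAlgebra
  let R := Γ(U.toScheme, ⊤)
  haveI : Module.Flat R Γ(↑V, ⊤) := (V.ι ≫ pullback.snd f (𝟙 _ ≫ U.ι)).flat_appTop
  haveI : IsNoetherianRing R := IsLocallyNoetherian.component_noetherian ⟨⊤, isAffineOpen_top U.toScheme⟩
  haveI : Nonempty ↥U.toScheme := ⟨⟨s, rfl⟩⟩
  let e := (Scheme.forgetToTop.mapIso U.toScheme.isoSpec)
  haveI : Subsingleton (PrimeSpectrum R) := (TopCat.homeoOfIso e).symm.toEquiv.subsingleton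
  obtain ⟨p⟩ : Nonempty (PrimeSpectrum R) := ⟨TopCat.homeoOfIso e ⟨s, rfl⟩⟩
  haveI : Nontrivial R := PrimeSpectrum.nontrivial p
  haveI : IsLocalRing R := by
    obtain ⟨m, hm⟩ := Ideal.exists_maximal R
    exact IsLocalRing.of_unique_max_ideal ⟨m, hm, fun m' hm' =>
      congrArg PrimeSpectrum.asIdeal (Subsingleton.elim (⟨m', hm'.isPrime⟩ : PrimeSpectrum R) ⟨m, hm.isPrime⟩)⟩
  have hnil : IsNilpotent (IsLocalRing.maximalIdeal R) := by
    have : IsLocalRing.maximalIdeal R ≤ nilradical R := by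
      rw [nilradical_eq_sInf]
      exact le_sInf fun q hq =>
        (congrArg PrimeSpectrum.asIdeal (Subsingleton.elim (⟨q, hq⟩ : PrimeSpectrum R) ⟨_, (IsLocalRing.maximalIdeal.isMaximal R).isPrime⟩)).ge
    obtain ⟨n, hn⟩ := IsNoetherianRing.isNilpotent_nilradical R
    exact ⟨n, le_bot_iff.1 ((Ideal.pow_right_mono this n).trans hn.le)⟩
  haveI := ArtFree.free_of_flat_of_nilpotent (M := Γ(↑V, ⊤)) hnil
  exact Module.Projective.of_free

end Groth.Agent.WeilClosedLib
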